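import Cfsg.Agent.ChevAut.Twisted.Out
import Cfsg.Agent.Chev.Twist.D4Stmts
import Cfsg.Agent.Chev.Twist.E6Stmts

/-!
The orbit diagrams of the triality and of the flip of the diagram of type `E₆`.
-/

set_option autoImplicit false
set_option maxRecDepth 100000
set_option maxHeartbeats 4000000

namespace Cfsg.Agent.Chev

open Cfsg.Lie
open scoped MatrixGroups

universe u

theorem exists_pow_eq_of_fixed {K : Type u} [Field K] [Fintype K] {N q : ℕ} (hq : 2 ≤ q)
    (hN : N * (q - 1) = Fintype.card K - 1) (t : Kˣ) (ht : t ^ (q - 1) = 1) :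
    ∃ u : Kˣ, u ^ N = t := by
  classical
  obtain ⟨g, hg⟩ := IsCyclic.exists_generator (α := Kˣ)
  obtain ⟨i, hi⟩ := Subgroup.mem_zpowers_iff.1 (hg t)
  have ho : orderOf g = N * (q - 1) := by
    rw [orderOf_eq_card_of_forall_mem_zpowers hg, Nat.card_eq_fintype_card, Fintype.card_units, hN]
  rw [← hi, ← zpow_natCast, ← zpow_mul] at ht
  have hd := orderOf_dvd_iff_zpow_eq_one.2 ht
  rw [ho, Nat.cast_mul] at hd
  obtain ⟨j, hj⟩ := Int.dvd_of_mul_dvd_mul_right (by omega) hd
  exact ⟨g ^ j, by rw [← hi, hj, ← zpow_natCast, ← zpow_mul, mul_comm]⟩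

namespace Twist

variable {D : ChevalleyDatum} {F : Type u} [Field F] (T : Twist D F)

theorem chiU_hv_eq (a : Fin T.m) (u : Fˣ) (r : Fin D.nroots) :
    chiU (T.hv a u) (r : ℕ) = ((List.range (T.len a)).map fun j =>
      Units.map (T.φ ^ j).toMonoidHom u ^ D.cartan (T.node a j) r).prod := by
  let χ : (Fin D.rank → Fˣ) →* Fˣ :=
    { toFun := fun c => chiU c (r : ℕ)
      map_one' := by simp [chiU]
      map_mul' := fun c d => by simp [chiU, mul_zpow, Finset.prod_mul_distrib] }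
  show χ (T.hv a u) = _
  rw [hv, map_list_prod, List.map_map]
  refine congrArg List.prod (List.map_congr_left fun j _ => ?_)
  exact chiU_mulSingle (T.node a j).2 _ _

theorem units_frob {q : ℕ} (h : ∀ (j : ℕ) (t : F), (T.φ ^ j) t = t ^ q ^ j) (j : ℕ) (u : Fˣ) :
    Units.map (T.φ ^ j).toMonoidHom u = u ^ q ^ j :=
  Units.ext (by rw [Units.val_pow_eq_pow_val]; exact h j (u : F))

theorem pow_sub_one_of_par {q : ℕ} (h : ∀ (j : ℕ) (t : F), (T.φ ^ j) t = t ^ q ^ j) (hq : 2 ≤ q)
    {b : Fin T.m} (hb : T.len b = 1) {t : Fˣ} (ht : T.Par b (t : F)) : t ^ (q - 1) = 1 := by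
  have h1 : t ^ q = t := Units.ext (by
    rw [Units.val_pow_eq_pow_val]
    have := h 1 (t : F)
    rw [pow_one, pow_one] at this
    rw [← this]
    change (T.φ ^ T.len b) (t : F) = t at ht
    rwa [hb, pow_one] at ht)
  rw [show q = q - 1 + 1 by omega, pow_succ, mul_eq_right] at h1
  exact h1

theorem wA_comm_iff (a b : Fin T.m) :
    Commute (T.wA a) (T.wA b) ↔ ∀ r : Fin D.nroots,
      (orbNats T.π T.base T.len a).foldr (fun i s => D.reflectRoot i s)
        ((orbNats T.π T.base T.len b).foldr (fun i s => D.reflectRoot i s) (r : ℕ)) =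
      (orbNats T.π T.base T.len b).foldr (fun i s => D.reflectRoot i s)
        ((orbNats T.π T.base T.len a).foldr (fun i s => D.reflectRoot i s) (r : ℕ)) := by
  have e : ∀ (c : Fin T.m) (r : Fin D.nroots), (T.wA c r : ℕ) =
      (orbNats T.π T.base T.len c).foldr (fun i s => D.reflectRoot i s) (r : ℕ) := fun c r => by
    rw [← T.pW_single_val, T.pW_cons, T.pW_nil, mul_one]
  simp only [commute_iff_eq, Equiv.ext_iff, Equiv.Perm.mul_apply, Fin.ext_iff, e]

end Twist

section D4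

theorem d4_link_data : chevD4.cartan (orbNode d4_031_π d4Base 0 0) (chevD4.simple (d4Base 1)) = -1 ∧
    chevD4.cartan (orbNode d4_031_π d4Base 0 1) (chevD4.simple (d4Base 1)) = -1 ∧
    chevD4.cartan (orbNode d4_031_π d4Base 0 2) (chevD4.simple (d4Base 1)) = -1 := by
  decide +kernel

theorem d4Len_injective : Function.Injective d4Len := by decide +kernel

variable {K : Type u} [Field K] (φ : K →+* K) (hφ : ∀ t, (φ ^ 3) t = t)

theorem d4_rigid : (twistD4 K φ hφ).Rigid := fun σ _ hlen _ a => d4Len_injective (hlen a)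

theorem d4_link [Fintype K] {q : ℕ} (hq2 : 2 ≤ q) (hK : Fintype.card K = q ^ 3)
    (h : ∀ (j : ℕ) (t : K), (φ ^ j) t = t ^ q ^ j) :
    ∀ b : Fin (twistD4 K φ hφ).m, b ≠ (0 : Fin 2) → ∃ a, a < b ∧ ∀ t : Kˣ,
      (twistD4 K φ hφ).Par b (t : K) → ∃ u : Kˣ, (twistD4 K φ hφ).Par a (u : K) ∧
        chiU ((twistD4 K φ hφ).hv a u) ((twistD4 K φ hφ).rt true b 0) = t := by
  set T := twistD4 K φ hφ with hT
  intro b hb
  obtain rfl : b = (1 : Fin 2) := (by decide : ∀ c : Fin 2, c ≠ 0 → c = 1) b hb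
  refine ⟨(0 : Fin 2), (by decide : (0 : Fin 2) < 1), fun t ht => ?_⟩
  obtain ⟨u, hu⟩ := exists_pow_eq_of_fixed (K := K) (N := 1 + q + q ^ 2) hq2 (by
      rw [hK]
      obtain ⟨n, rfl⟩ : ∃ n, q = n + 1 := ⟨q - 1, by omega⟩
      rw [Nat.add_sub_cancel]
      refine (Nat.sub_eq_of_eq_add ?_).symm
      ring) t⁻¹
    (by rw [inv_pow, T.pow_sub_one_of_par h hq2 (b := (1 : Fin 2)) (show d4Len 1 = 1 by decide +kernel) ht, inv_one])
  refine ⟨u, T.par_of_len (a := (0 : Fin 2)) (show d4Len 0 = 3 by decide +kernel) _, ?_⟩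
  obtain ⟨c0, c1, c2⟩ := d4_link_data
  refine (T.chiU_hv_eq _ _ _).trans ?_
  show ((List.range (d4Len 0)).map fun j => Units.map (φ ^ j).toMonoidHom u ^
    chevD4.cartan (orbNode d4_031_π d4Base 0 j) (chevD4.simple (d4Base 1))).prod = t
  rw [show d4Len 0 = 3 by decide +kernel]
  simp only [List.range_succ, List.range_zero, List.nil_append, List.map_append, List.map_cons,
    List.map_nil, List.prod_append, List.prod_cons, List.prod_nil, mul_one, c0, c1, c2]
  have huf : ∀ (j : ℕ), Units.map (φ ^ j).toMonoidHom u = u ^ q ^ j := fun j => T.units_frob h j u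
  simp only [huf]
  simp only [zpow_neg_one, ← mul_inv, pow_zero, pow_one]
  rw [pow_add, pow_add, pow_one] at hu
  rw [hu, inv_inv]

end D4

section E6

theorem e6_link_data :
    chevE6.cartan (orbNode e6_flip_π e6Base 0 0) (chevE6.simple (e6Base 1)) = -1 ∧
    chevE6.cartan (orbNode e6_flip_π e6Base 0 1) (chevE6.simple (e6Base 1)) = 0 ∧
    chevE6.cartan (orbNode e6_flip_π e6Base 1 0) (chevE6.simple (e6Base 2)) = -1 ∧
    chevE6.cartan (orbNode e6_flip_π e6Base 1 1) (chevE6.simple (e6Base 2)) = -1 ∧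
    chevE6.cartan (orbNode e6_flip_π e6Base 2 0) (chevE6.simple (e6Base 3)) = -1 := by
  decide +kernel

/-- Commutation of the orbit reflections. -/
def e6Comm (a b : Fin 4) : Bool :=
  decide ((a : ℕ) + 1 ≠ b ∧ (b : ℕ) + 1 ≠ a)

theorem e6_comm : ∀ a b : Fin 4,
    ((∀ r : Fin chevE6.nroots,
      (orbNats e6_flip_π e6Base e6Len a).foldr (fun i s => chevE6.reflectRoot i s)
        ((orbNats e6_flip_π e6Base e6Len b).foldr (fun i s => chevE6.reflectRoot i s) (r : ℕ)) =
      (orbNats e6_flip_π e6Base e6Len b).foldr (fun i s => chevE6.reflectRoot i s)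
        ((orbNats e6_flip_π e6Base e6Len a).foldr (fun i s => chevE6.reflectRoot i s) (r : ℕ))) ↔
      e6Comm a b = true) := by
  decide +kernel

theorem e6_perm : ∀ σ : Fin 4 → Fin 4, Function.Injective σ → (∀ a, e6Len (σ a) = e6Len a) →
    (∀ a b, e6Comm (σ a) (σ b) = e6Comm a b) → ∀ a, σ a = a := by
  decide +kernel

variable {K : Type u} [Field K] (φ : K →+* K) (hφ : ∀ t, (φ ^ 2) t = t)

theorem e6_rigid : (twistE6 K φ hφ).Rigid := fun σ hinj hlen hc a => by
  refine e6_perm σ hinj hlen (fun a b => Bool.eq_iff_iff.2 ?_) a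
  have h1 := (((twistE6 K φ hφ).wA_comm_iff (σ a) (σ b)).symm.trans (hc a b)).trans
    ((twistE6 K φ hφ).wA_comm_iff a b)
  exact ((e6_comm _ _).symm.trans h1).trans (e6_comm _ _)

theorem e6_link [Fintype K] {q : ℕ} (hq2 : 2 ≤ q) (hK : Fintype.card K = q ^ 2)
    (h : ∀ (j : ℕ) (t : K), (φ ^ j) t = t ^ q ^ j) :
    ∀ b : Fin (twistE6 K φ hφ).m, b ≠ (0 : Fin 4) → ∃ a, a < b ∧ ∀ t : Kˣ,
      (twistE6 K φ hφ).Par b (t : K) → ∃ u : Kˣ, (twistE6 K φ hφ).Par a (u : K) ∧
        chiU ((twistE6 K φ hφ).hv a u) ((twistE6 K φ hφ).rt true b 0) = t := by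
  set T := twistE6 K φ hφ with hT
  obtain ⟨a00, a01, a10, a11, a20⟩ := e6_link_data
  have huf : ∀ (j : ℕ) (u : Kˣ), Units.map (φ ^ j).toMonoidHom u = u ^ q ^ j := T.units_frob h
  intro b hb
  have hb' : b = (1 : Fin 4) ∨ b = (2 : Fin 4) ∨ b = (3 : Fin 4) :=
    (by decide : ∀ c : Fin 4, c ≠ 0 → c = 1 ∨ c = 2 ∨ c = 3) b hb
  rcases hb' with rfl | rfl | rfl
  · refine ⟨(0 : Fin 4), (by decide : (0 : Fin 4) < 1), fun t _ => ⟨t⁻¹,
      T.par_of_len (a := (0 : Fin 4)) (show e6Len 0 = 2 by decide +kernel) _, ?_⟩⟩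
    refine (T.chiU_hv_eq _ _ _).trans ?_
    show ((List.range (e6Len 0)).map fun j => Units.map (φ ^ j).toMonoidHom t⁻¹ ^
      chevE6.cartan (orbNode e6_flip_π e6Base 0 j) (chevE6.simple (e6Base 1))).prod = t
    rw [show e6Len 0 = 2 by decide +kernel]
    simp only [List.range_succ, List.range_zero, List.nil_append, List.map_append, List.map_cons,
      List.map_nil, List.prod_append, List.prod_cons, List.prod_nil, mul_one, a00, a01, huf,
      zpow_neg_one, zpow_zero, pow_zero, pow_one, inv_inv]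
  · refine ⟨(1 : Fin 4), (by decide : (1 : Fin 4) < 2), fun t ht => ?_⟩
    obtain ⟨u, hu⟩ := exists_pow_eq_of_fixed (K := K) (N := 1 + q) hq2 (by
        rw [hK, add_comm 1 q]
        simpa using (Nat.sq_sub_sq q 1).symm) t⁻¹
      (by rw [inv_pow, T.pow_sub_one_of_par h hq2 (b := (2 : Fin 4)) (show e6Len 2 = 1 by decide +kernel) ht, inv_one])
    refine ⟨u, T.par_of_len (a := (1 : Fin 4)) (show e6Len 1 = 2 by decide +kernel) _, ?_⟩
    refine (T.chiU_hv_eq _ _ _).trans ?_
    show ((List.range (e6Len 1)).map fun j => Units.map (φ ^ j).toMonoidHom u ^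
      chevE6.cartan (orbNode e6_flip_π e6Base 1 j) (chevE6.simple (e6Base 2))).prod = t
    rw [show e6Len 1 = 2 by decide +kernel]
    simp only [List.range_succ, List.range_zero, List.nil_append, List.map_append, List.map_cons,
      List.map_nil, List.prod_append, List.prod_cons, List.prod_nil, mul_one, a10, a11, huf]
    simp only [zpow_neg_one, ← mul_inv, pow_zero, pow_one]
    rw [pow_add, pow_one] at hu
    rw [hu, inv_inv]
  · refine ⟨(2 : Fin 4), (by decide : (2 : Fin 4) < 3), fun t ht => ⟨t⁻¹, ?_, ?_⟩⟩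
    · rw [Units.val_inv_eq_inv_val]
      refine T.par_inv ?_
      change (φ ^ e6Len 3) (t : K) = t at ht
      show (φ ^ e6Len 2) (t : K) = t
      rwa [show e6Len 2 = e6Len 3 by decide +kernel]
    · refine (T.chiU_hv_eq _ _ _).trans ?_
      show ((List.range (e6Len 2)).map fun j => Units.map (φ ^ j).toMonoidHom t⁻¹ ^
        chevE6.cartan (orbNode e6_flip_π e6Base 2 j) (chevE6.simple (e6Base 3))).prod = t
      rw [show e6Len 2 = 1 by decide +kernel]
      simp only [List.range_succ, List.range_zero, List.nil_append, List.map_cons,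
        List.map_nil, List.prod_cons, List.prod_nil, mul_one, a20, huf,
        zpow_neg_one, pow_zero, pow_one, inv_inv]

end E6

end Cfsg.Agent.Chev
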