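import Cfsg.Agent.ChevAut.Twisted.Normalise

/-!
A normalised automorphism of a twisted group fixes the minimal cells and the fundamental root
subgroups, provided the diagram of the orbits is rigid.
-/

set_option autoImplicit false
set_option maxHeartbeats 1000000

namespace Cfsg.Agent.Chev

open Cfsg.Lie
open scoped MatrixGroups

universe u

namespace Twist

variable {D : ChevalleyDatum} {F : Type u} [Field F] (T : Twist D F)

/-- A double coset of `B¹` in a normal form. -/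
theorem cell_nf_ws {b b' : GL D.Idx F} (hb : b ∈ T.B1) (hb' : b' ∈ T.B1) (ws : List (Fin T.m)) :
    ∃ c ∈ T.B1, ∃ x ∈ T.fm (T.pW ws), b * T.nW ws * b' = c * T.nW ws * x := by
  obtain ⟨u, hu, h, hh, rfl⟩ := T.mem_B1.1 hb'
  obtain ⟨p, hp, m, hm, hpf, hmf, rfl⟩ :=
    T.split_fx (T.isMon_nW ws) (T.inW1_pW ws).2 hu.1 hu.2
  obtain ⟨h', hh', e⟩ := T.nW_torus hh ws
  have hnf : T.nW ws ∈ T.fx := T.nW_fx ws
  have hp' : T.nW ws * p * (T.nW ws)⁻¹ ∈ T.U1 :=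
    ⟨conj_uPlus T.hF (T.isMon_nW ws) hp,
      Subgroup.mul_mem _ (Subgroup.mul_mem _ hnf hpf) (Subgroup.inv_mem _ hnf)⟩
  have hm' : h⁻¹ * m * h ∈ T.fm (T.pW ws) := by
    refine ⟨?_, Subgroup.mul_mem _ (Subgroup.mul_mem _ (Subgroup.inv_mem _ (T.T1_le_fx hh)) hmf)
      (T.T1_le_fx hh)⟩
    obtain ⟨c, -, rfl⟩ := hh
    have := torus_conj_uGens T.hF c⁻¹ hm
    rwa [map_inv, inv_inv] at this
  refine ⟨b * (T.nW ws * p * (T.nW ws)⁻¹) * h',
    Subgroup.mul_mem _ (Subgroup.mul_mem _ hb (Subgroup.mem_sup_left hp'))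
      (Subgroup.mem_sup_right hh'), _, hm', ?_⟩
  rw [mul_assoc _ h' (T.nW ws), ← e]
  group

theorem cell_perm {b b' c c' : GL D.Idx F} (hb : b ∈ T.B1) (hb' : b' ∈ T.B1) (hc : c ∈ T.B1)
    (hc' : c' ∈ T.B1) {ws ws' : List (Fin T.m)}
    (e : b * T.nW ws * b' = c * T.nW ws' * c') : T.pW ws = T.pW ws' := by
  obtain ⟨d, hd, x, hx, e1⟩ := T.cell_nf_ws hb hb' ws
  obtain ⟨d', hd', x', hx', e2⟩ := T.cell_nf_ws hc hc' ws'
  exact (T.nf_unique (T.B1_le_borel hd) (T.B1_le_borel hd') hx.1 hx'.1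
    (e1.symm.trans (e.trans e2))).1

theorem nW_single (a : Fin T.m) : T.nW [a] = T.nA a := by rw [T.nW_cons, T.nW_nil, mul_one]

theorem pW_single (a : Fin T.m) : T.pW [a] = T.wA a := by rw [T.pW_cons, T.pW_nil, mul_one]

theorem wA_ne_one (a : Fin T.m) : T.wA a ≠ 1 := fun e => by
  have h := T.wA_node a 0
  rw [e, Equiv.Perm.one_apply] at h
  exact neg_ne_self T.hF (sRoot T.hF (T.node a 0)).2 (congrArg Fin.val h).symm

/-- A minimal double coset. -/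
def Cell (a : Fin T.m) (x : GL D.Idx F) : Prop :=
  ∃ b ∈ T.B1, ∃ b' ∈ T.B1, x = b * T.nA a * b'

theorem cell_mem_G1 {a : Fin T.m} {x : GL D.Idx F} (h : T.Cell a x) : x ∈ T.G1 := by
  obtain ⟨b, hb, b', hb', rfl⟩ := h
  exact Subgroup.mul_mem _ (Subgroup.mul_mem _ (T.B1_le_G1 hb) (T.nA_mem_G1 a)) (T.B1_le_G1 hb')

theorem cell_not_B1 {a : Fin T.m} {x : GL D.Idx F} (h : T.Cell a x) : x ∉ T.B1 := by
  intro hx
  obtain ⟨b, hb, b', hb', rfl⟩ := h
  have h1 := T.cell_perm hb hb' hx (Subgroup.one_mem _) (ws := [a]) (ws' := [])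
    (by rw [T.nW_single, T.nW_nil, mul_one, mul_one])
  rw [T.pW_single, T.pW_nil] at h1
  exact T.wA_ne_one a h1

theorem cell_eq {a c : Fin T.m} {x : GL D.Idx F} (h : T.Cell a x) (h' : T.Cell c x) : a = c := by
  obtain ⟨b, hb, b', hb', rfl⟩ := h
  obtain ⟨d, hd, d', hd', e⟩ := h'
  have h1 := T.cell_perm hb hb' hd hd' (ws := [a]) (ws' := [c])
    (by rw [T.nW_single, T.nW_single]; exact e)
  rw [T.pW_single, T.pW_single] at h1
  exact T.wA_injective h1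

/-- A minimal parabolic subgroup. -/
def Pa (a : Fin T.m) : Subgroup (GL D.Idx F) where
  carrier := {x | x ∈ T.B1 ∨ T.Cell a x}
  one_mem' := Or.inl (Subgroup.one_mem _)
  mul_mem' := by
    rintro x y (hx | ⟨b, hb, b', hb', rfl⟩) (hy | ⟨c, hc, c', hc', rfl⟩)
    · exact Or.inl (Subgroup.mul_mem _ hx hy)
    · exact Or.inr ⟨x * c, Subgroup.mul_mem _ hx hc, c', hc', by group⟩
    · exact Or.inr ⟨b, hb, b' * y, Subgroup.mul_mem _ hb' hy, by group⟩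
    · obtain ⟨b₁, hb₁, b₂, hb₂, H | H⟩ := T.step a [a] (Subgroup.mul_mem _ hb' hc)
      · refine Or.inl ?_
        rw [show b * T.nA a * b' * (c * T.nA a * c') = b * (T.nA a * (b' * c) * T.nW [a]) * c' by
          rw [T.nW_single]; group, H, T.nW_cons, T.nW_single]
        exact Subgroup.mul_mem _ (Subgroup.mul_mem _ hb (Subgroup.mul_mem _ (Subgroup.mul_mem _ hb₁
          (Subgroup.mem_sup_right (T.nA_sq a))) hb₂)) hc'
      · refine Or.inr ⟨b * b₁, Subgroup.mul_mem _ hb hb₁, b₂ * c', Subgroup.mul_mem _ hb₂ hc', ?_⟩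
        rw [show b * T.nA a * b' * (c * T.nA a * c') = b * (T.nA a * (b' * c) * T.nW [a]) * c' by
          rw [T.nW_single]; group, H, T.nW_single]
        group
  inv_mem' := by
    rintro x (hx | ⟨b, hb, b', hb', rfl⟩)
    · exact Or.inl (Subgroup.inv_mem _ hx)
    · obtain ⟨h, hh, e⟩ := T.nA_inv a
      refine Or.inr ⟨b'⁻¹ * h, Subgroup.mul_mem _ (Subgroup.inv_mem _ hb')
        (Subgroup.mem_sup_right hh), b⁻¹, Subgroup.inv_mem _ hb, ?_⟩
      rw [mul_inv_rev, mul_inv_rev, e]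
      group

theorem mem_Pa {a : Fin T.m} {x : GL D.Idx F} : x ∈ T.Pa a ↔ x ∈ T.B1 ∨ T.Cell a x := Iff.rfl

theorem Pa_le_G1 (a : Fin T.m) : T.Pa a ≤ T.G1 := by
  rintro x (hx | hx)
  · exact T.B1_le_G1 hx
  · exact T.cell_mem_G1 hx

theorem cell_nf {a : Fin T.m} {x : GL D.Idx F} (h : T.Cell a x) :
    ∃ b ∈ T.B1, ∃ t, T.Par a t ∧ x = b * T.nA a * T.y true a t := by
  obtain ⟨b, hb, b', hb', rfl⟩ := h
  obtain ⟨c, hc, y, hy, e⟩ := T.cell_nf_ws hb hb' [a]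
  rw [T.nW_single] at e
  rw [T.pW_single] at hy
  obtain ⟨t, ht, rfl⟩ := T.exists_y hy.1 hy.2
  exact ⟨c, hc, t, ht, e⟩

theorem card_cell {q : ℕ} (hq : ∀ a, Nat.card {t : F // T.Par a t} = q ^ T.len a) (a : Fin T.m) :
    Nat.card {g : ↥T.G1 // T.Cell a (g : GL D.Idx F)} = Nat.card ↥T.B1 * q ^ T.len a := by
  rw [← hq a, ← Nat.card_prod]
  refine (Nat.card_congr (Equiv.ofBijective
    (fun x : ↥T.B1 × {t : F // T.Par a t} =>
      (⟨⟨(x.1 : GL D.Idx F) * T.nA a * T.y true a x.2,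
        Subgroup.mul_mem _ (Subgroup.mul_mem _ (T.B1_le_G1 x.1.2) (T.nA_mem_G1 a))
          (T.y_mem_G1 x.2.2 _)⟩,
        ⟨x.1, x.1.2, _, Subgroup.mem_sup_left (T.y_mem_U1 x.2.2), rfl⟩⟩ :
        {g : ↥T.G1 // T.Cell a (g : GL D.Idx F)})) ⟨?_, ?_⟩)).symm
  · intro x x' e
    have e' := congrArg (fun g : {g : ↥T.G1 // T.Cell a (g : GL D.Idx F)} =>
      ((g : ↥T.G1) : GL D.Idx F)) e
    have hm : ∀ t : F, T.y true a t ∈ uMinus T.hF (T.pW [a]) := fun t => by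
      rw [T.pW_single]; exact T.y_mem_uMinus a _
    obtain ⟨h1, h2⟩ := (T.nf_unique (ws := [a]) (ws' := [a]) (T.B1_le_borel x.1.2)
      (T.B1_le_borel x'.1.2) (hm x.2.1) (hm x'.2.1) (by simpa [T.nW_single] using e')).2 rfl
    exact Prod.ext (Subtype.ext h1) (Subtype.ext (T.y_injective h2))
  · rintro ⟨g, hg⟩
    obtain ⟨b, hb, t, ht, e⟩ := T.cell_nf hg
    exact ⟨(⟨b, hb⟩, ⟨t, ht⟩), Subtype.ext (Subtype.ext e.symm)⟩

theorem y_false_eq (a : Fin T.m) (s : F) :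
    T.y false a (-s⁻¹) = T.y true a (-s) * T.nn a s * T.y true a (-s) := by
  rw [nn, ← T.y_inv true a s]
  group

theorem y_false_cell {a : Fin T.m} {t : F} (ht : T.Par a t) (h0 : t ≠ 0) :
    T.Cell a (T.y false a t) := by
  set s : Fˣ := Units.mk0 (-t⁻¹) (neg_ne_zero.2 (inv_ne_zero h0))
  have hs : T.Par a (s : F) := T.par_neg (T.par_inv ht)
  have e := T.y_false_eq a (s : F)
  rw [show -(s : F)⁻¹ = t by simp [s, inv_neg], T.nn_torus] at e
  refine ⟨T.y true a (-(s : F)) * torusHom (T.hv a s), Subgroup.mul_mem _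
    (Subgroup.mem_sup_left (T.y_mem_U1 (T.par_neg hs)))
    (Subgroup.mem_sup_right (T.mem_T1.2 ⟨_, T.hv_mem hs, rfl⟩)),
    _, Subgroup.mem_sup_left (T.y_mem_U1 (T.par_neg hs)), ?_⟩
  rw [e]; group

theorem y_mem_V1 {a : Fin T.m} {t : F} (ht : T.Par a t) : T.y false a t ∈ T.V1 := by
  refine ⟨Subgroup.list_prod_mem _ fun x hx => ?_, T.y_fx ht _⟩
  obtain ⟨j, -, rfl⟩ := List.mem_map.1 hx
  exact mem_negUnipotent_of T.hF (T.rt false a j).2
    ((neg_lt_half_iff T.hF (sRoot T.hF (T.node a j)).2).2 (T.hF.simple_pos _ (T.node a j).2)) _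

/-- A minimal double coset meets the lower subgroup in a fundamental root subgroup. -/
theorem cell_inf_V1 {a : Fin T.m} {v : GL D.Idx F} (hv : v ∈ T.V1) (hc : T.Cell a v) :
    ∃ t, T.Par a t ∧ v = T.y false a t := by
  obtain ⟨b, hb, t, ht, rfl⟩ := T.cell_nf hc
  rcases eq_or_ne t 0 with rfl | ht0
  · exfalso
    rw [T.y_zero, mul_one] at hv
    have hy : (T.nA a)⁻¹ * T.y true a 1 * (T.nA a)⁻¹⁻¹ ∈ T.V1 := by
      refine T.conj_y_neg (isMon_inv' T.hF (T.isMon_nA a)) (Subgroup.inv_mem _ (T.nA_fx a))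
        ((T.inW1_wA a).inv T) ?_ (T.par_one a)
      rw [T.wA_inv, ← T.node_zero, T.wA_node]
      exact (neg_lt_half_iff T.hF (sRoot T.hF (T.node a 0)).2).2
        (T.hF.simple_pos _ (T.node a 0).2)
    have h1 : b * T.y true a 1 * b⁻¹ = 1 := T.V1_disjoint
      (Subgroup.mem_sup_left (T.B1_normalizes hb (T.y_mem_U1 (T.par_one a))).1) (by
        rw [show b * T.y true a 1 * b⁻¹ =
          (b * T.nA a) * ((T.nA a)⁻¹ * T.y true a 1 * (T.nA a)⁻¹⁻¹) * (b * T.nA a)⁻¹ by group]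
        exact Subgroup.mul_mem _ (Subgroup.mul_mem _ hv hy) (Subgroup.inv_mem _ hv))
    rw [conj_eq_one_iff] at h1
    exact T.y_ne_one one_ne_zero true h1
  · refine ⟨t⁻¹, T.par_inv ht, mul_inv_eq_one.1 (T.V1_disjoint ?_
      (Subgroup.mul_mem _ hv (Subgroup.inv_mem _ (T.y_mem_V1 (T.par_inv ht)))))⟩
    set s : Fˣ := Units.mk0 (-t) (neg_ne_zero.2 ht0)
    have hs : T.Par a (s : F) := T.par_neg ht
    have e := T.y_false_eq a (s : F)
    rw [show -(s : F)⁻¹ = t⁻¹ by simp [s, inv_neg], show -(s : F) = t by simp [s],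
      T.nn_torus] at e
    rw [e, show b * T.nA a * T.y true a t *
      (T.y true a t * (torusHom (T.hv a s) * T.nA a) * T.y true a t)⁻¹ =
      b * (torusHom (T.hv a s))⁻¹ * (T.y true a t)⁻¹ by group]
    exact T.B1_le_borel (Subgroup.mul_mem _ (Subgroup.mul_mem _ hb
      (Subgroup.inv_mem _ (Subgroup.mem_sup_right (T.mem_T1.2 ⟨_, T.hv_mem hs, rfl⟩))))
      (Subgroup.inv_mem _ (Subgroup.mem_sup_left (T.y_mem_U1 ht))))

/-- Two minimal parabolic subgroups permute. -/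
def Swap (a b : Fin T.m) : Prop :=
  ∀ x ∈ T.Pa a, ∀ y ∈ T.Pa b, ∃ x' ∈ T.Pa a, ∃ y' ∈ T.Pa b, x * y = y' * x'

theorem nA_mem_Pa (a : Fin T.m) : T.nA a ∈ T.Pa a :=
  Or.inr ⟨1, Subgroup.one_mem _, 1, Subgroup.one_mem _, by rw [one_mul, mul_one]⟩

theorem swap_iff (a b : Fin T.m) : T.Swap a b ↔ Commute (T.wA a) (T.wA b) := by
  constructor
  · intro h
    rcases eq_or_ne a b with rfl | hab
    · exact Commute.refl _
    obtain ⟨x', hx', y', hy', e⟩ := h _ (T.nA_mem_Pa a) _ (T.nA_mem_Pa b)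
    have e0 : (1 : GL D.Idx F) * T.nW [a, b] * 1 = y' * x' := by
      rw [one_mul, mul_one, T.nW_cons, T.nW_single, e]
    have h1 : T.pW [a, b] = T.wA a * T.wA b := by rw [T.pW_cons, T.pW_single]
    rcases hy' with hy' | ⟨c, hc, c', hc', rfl⟩ <;> rcases hx' with hx' | ⟨d, hd, d', hd', rfl⟩
    · have := T.cell_perm (Subgroup.one_mem _) (Subgroup.one_mem _) hy' hx' (ws := [a, b])
        (ws' := []) (by rw [e0, T.nW_nil, mul_one])
      rw [h1, T.pW_nil, mul_eq_one_iff_eq_inv, T.wA_inv] at this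
      exact absurd (T.wA_injective this) hab
    · have := T.cell_perm (Subgroup.one_mem _) (Subgroup.one_mem _) (Subgroup.mul_mem _ hy' hd)
        hd' (ws := [a, b]) (ws' := [a]) (by rw [e0, T.nW_single]; group)
      rw [h1, T.pW_single, mul_eq_left] at this
      exact absurd this (T.wA_ne_one b)
    · have := T.cell_perm (Subgroup.one_mem _) (Subgroup.one_mem _) hc (Subgroup.mul_mem _ hc' hx')
        (ws := [a, b]) (ws' := [b]) (by rw [e0, T.nW_single]; group)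
      rw [h1, T.pW_single, mul_eq_right] at this
      exact absurd this (T.wA_ne_one a)
    · obtain ⟨b₁, hb₁, b₂, hb₂, H | H⟩ := T.step b [a] (Subgroup.mul_mem _ hc' hd)
      · have := T.cell_perm (Subgroup.one_mem _) (Subgroup.one_mem _) (Subgroup.mul_mem _ hc hb₁)
          (Subgroup.mul_mem _ hb₂ hd') (ws := [a, b]) (ws' := [b, a]) (by
            rw [e0, show c * T.nA b * c' * (d * T.nA a * d') =
              c * (T.nA b * (c' * d) * T.nW [a]) * d' by rw [T.nW_single]; group, H]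
            group)
        rw [h1, T.pW_cons, T.pW_single] at this
        exact this
      · have := T.cell_perm (Subgroup.one_mem _) (Subgroup.one_mem _) (Subgroup.mul_mem _ hc hb₁)
          (Subgroup.mul_mem _ hb₂ hd') (ws := [a, b]) (ws' := [a]) (by
            rw [e0, show c * T.nA b * c' * (d * T.nA a * d') =
              c * (T.nA b * (c' * d) * T.nW [a]) * d' by rw [T.nW_single]; group, H]
            group)
        rw [h1, T.pW_single, mul_eq_left] at this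
        exact absurd this (T.wA_ne_one b)
  · intro hc x hx y hy
    rcases hx with hx | ⟨b₁, hb₁, b₂, hb₂, rfl⟩
    · exact ⟨1, Subgroup.one_mem _, x * y, Subgroup.mul_mem _ (Or.inl hx) hy, (mul_one _).symm⟩
    rcases hy with hy | ⟨b₃, hb₃, b₄, hb₄, rfl⟩
    · exact ⟨_, Subgroup.mul_mem _ (Or.inr ⟨b₁, hb₁, b₂, hb₂, rfl⟩) (Or.inl hy), 1,
        Subgroup.one_mem _, (one_mul _).symm⟩
    obtain ⟨c₁, hc₁, c₂, hc₂, H | H⟩ := T.step a [b] (Subgroup.mul_mem _ hb₂ hb₃)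
    · have hd : (T.nW [b, a])⁻¹ * T.nW [a, b] ∈ T.T1 := by
        refine T.N1_mem_T1 (Subgroup.mul_mem _ (Subgroup.inv_mem _ (T.nW_mem_N1 _))
          (T.nW_mem_N1 _)) ?_
        have := isMon_mul T.hF (isMon_inv' T.hF (T.isMon_nW [b, a])) (T.isMon_nW [a, b])
        rwa [show T.pW [b, a] = T.pW [a, b] by simp only [T.pW_cons, T.pW_nil, mul_one]; exact hc.eq.symm,
          inv_mul_cancel] at this
      refine ⟨T.nA a * ((T.nW [b, a])⁻¹ * T.nW [a, b] * c₂ * b₄), Subgroup.mul_mem _ (T.nA_mem_Pa a)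
        (Or.inl (Subgroup.mul_mem _ (Subgroup.mul_mem _ (Subgroup.mem_sup_right hd) hc₂) hb₄)),
        b₁ * c₁ * T.nA b, Or.inr ⟨_, Subgroup.mul_mem _ hb₁ hc₁, 1, Subgroup.one_mem _,
          (mul_one _).symm⟩, ?_⟩
      rw [show b₁ * T.nA a * b₂ * (b₃ * T.nA b * b₄) =
        b₁ * (T.nA a * (b₂ * b₃) * T.nW [b]) * b₄ by rw [T.nW_single]; group, H,
        show T.nW [b, a] = T.nA b * T.nA a by rw [T.nW_cons, T.nW_single]]
      group
    · refine ⟨1, Subgroup.one_mem _, _, Or.inr ⟨b₁ * c₁, Subgroup.mul_mem _ hb₁ hc₁, c₂ * b₄,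
        Subgroup.mul_mem _ hc₂ hb₄, rfl⟩, ?_⟩
      rw [show b₁ * T.nA a * b₂ * (b₃ * T.nA b * b₄) =
        b₁ * (T.nA a * (b₂ * b₃) * T.nW [b]) * b₄ by rw [T.nW_single]; group, H, T.nW_single]
      group

/-- The only permutation of the orbits keeping lengths and commutation is the identity. -/
def Rigid : Prop :=
  ∀ σ : Fin T.m → Fin T.m, Function.Injective σ → (∀ a, T.len (σ a) = T.len a) →
    (∀ a b, Commute (T.wA (σ a)) (T.wA (σ b)) ↔ Commute (T.wA a) (T.wA b)) → ∀ a, σ a = a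

variable {T} {θ : ↥T.G1 ≃* ↥T.G1} (h : T.Norm1 θ)

include h

theorem Norm1.exists_cell (a : Fin T.m) :
    ∃ c, ∀ x : ↥T.G1, T.Cell c (θ x : GL D.Idx F) ↔ T.Cell a (x : GL D.Idx F) := by
  set na : ↥T.G1 := ⟨T.nA a, T.nA_mem_G1 a⟩ with hna
  obtain ⟨b, hb, ws, x, hx, e⟩ := T.exists_nf (θ na).2
  have hxB : x ∈ T.B1 := Subgroup.mem_sup_left (T.fm_le_U1 _ hx)
  have hp := T.inW1_pW ws
  have hne : T.pW ws ≠ 1 := fun h1 => by
    have h2 : (θ na : GL D.Idx F) ∈ T.B1 := by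
      rw [e]
      exact Subgroup.mul_mem _ (Subgroup.mul_mem _ hb
        (Subgroup.mem_sup_right (T.nW_mem_T1 ws h1))) hxB
    exact T.cell_not_B1 (a := a) (x := T.nA a)
      ⟨1, Subgroup.one_mem _, 1, Subgroup.one_mem _, by group⟩ ((h.mem_B1 na).1 h2)
  obtain ⟨c, hcneg⟩ := T.exists_base_neg hp hne
  set n := T.nW ws with hn
  have hu : n * T.y false c 1 * n⁻¹ ∈ T.U1 := by
    have h1 := T.conj_y_mem (isMon_inv' T.hF (isMon_mul T.hF (T.isMon_nW ws) (T.isMon_nA c)))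
      (Subgroup.inv_mem _ (Subgroup.mul_mem _ (T.nW_fx ws) (T.nA_fx c)))
      ((hp.mul T (T.inW1_wA c)).inv T) (a := c)
      (by
        rw [inv_inv, Equiv.Perm.mul_apply, ← T.node_zero, T.wA_node, weyl_negF T.hF hp.1]
        exact (pos_negF_iff T.hF _).2 hcneg)
      (t := -1) (T.par_neg (T.par_one c))
    rw [inv_inv, show n * T.nA c * T.y true c (-1) * (n * T.nA c)⁻¹ =
      n * (T.nA c * T.y true c (-1) * (T.nA c)⁻¹) * n⁻¹ by group, T.nA_conj_y, neg_neg] at h1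
    exact h1
  set nn' : ↥T.G1 := ⟨n, T.N1_le_G1 (T.nW_mem_N1 ws)⟩ with hnn
  have hpre : ∀ w : ↥T.G1, (w : GL D.Idx F) ∈ T.B1 → (θ.symm w : GL D.Idx F) ∈ T.B1 := by
    intro w hw
    rw [← h.mem_B1, MulEquiv.apply_symm_apply]
    exact hw
  have hn' : nn' = ⟨b, T.B1_le_G1 hb⟩⁻¹ * θ na * ⟨x, T.B1_le_G1 hxB⟩⁻¹ := by
    apply Subtype.ext
    show n = b⁻¹ * (θ na : GL D.Idx F) * x⁻¹
    rw [e]; group
  set yy : ↥T.G1 := ⟨T.y false c 1, T.y_mem_G1 (T.par_one c) _⟩ with hyy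
  set uu : ↥T.G1 := ⟨_, T.U1_le_G1 hu⟩ with huu
  have hy' : yy = nn'⁻¹ * uu * nn' := by
    apply Subtype.ext
    show T.y false c 1 = n⁻¹ * (n * T.y false c 1 * n⁻¹) * n
    group
  have hnP : (θ.symm nn' : GL D.Idx F) ∈ T.Pa a := by
    rw [hn', map_mul, map_mul, map_inv, map_inv, θ.symm_apply_apply]
    exact Subgroup.mul_mem _ (Subgroup.mul_mem _ (Subgroup.inv_mem _ (Or.inl (hpre _ hb)))
      (T.nA_mem_Pa a)) (Subgroup.inv_mem _ (Or.inl (hpre _ hxB)))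
  have hz : (θ.symm yy : GL D.Idx F) ∈ T.Pa a := by
    rw [hy', map_mul, map_mul, map_inv]
    exact Subgroup.mul_mem _ (Subgroup.mul_mem _ (Subgroup.inv_mem _ hnP)
      (Or.inl (hpre _ (Subgroup.mem_sup_left hu)))) hnP
  -- images of the cell lie in the double coset of `n`
  have himg : ∀ w : ↥T.G1, T.Cell a (w : GL D.Idx F) →
      ∃ d ∈ T.B1, ∃ d' ∈ T.B1, (θ w : GL D.Idx F) = d * n * d' := by
    rintro w ⟨d, hd, d', hd', ew⟩
    refine ⟨(θ ⟨d, T.B1_le_G1 hd⟩ : GL D.Idx F) * b,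
      Subgroup.mul_mem _ ((h.mem_B1 _).2 hd) hb, x * (θ ⟨d', T.B1_le_G1 hd'⟩ : GL D.Idx F),
      Subgroup.mul_mem _ hxB ((h.mem_B1 _).2 hd'), ?_⟩
    rw [show w = ⟨d, T.B1_le_G1 hd⟩ * na * ⟨d', T.B1_le_G1 hd'⟩ from Subtype.ext ew, map_mul,
      map_mul, Subgroup.coe_mul, Subgroup.coe_mul, e]
    group
  have hcell := T.y_false_cell (T.par_one c) one_ne_zero
  have hpc : T.pW ws = T.wA c := by
    rcases hz with hz | hz
    · exfalso
      have h2 := (h.mem_B1 _).2 hz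
      rw [θ.apply_symm_apply] at h2
      exact T.cell_not_B1 hcell h2
    · obtain ⟨d, hd, d', hd', ed⟩ := himg _ hz
      rw [θ.apply_symm_apply] at ed
      obtain ⟨k, hk, k', hk', ek⟩ := hcell
      have := T.cell_perm hd hd' hk hk' (ws := ws) (ws' := [c]) (by
        rw [T.nW_single, ← hn, ← ed]; exact ek)
      rwa [T.pW_single] at this
  have hdd : (T.nA c)⁻¹ * n ∈ T.T1 := by
    refine T.N1_mem_T1 (Subgroup.mul_mem _ (Subgroup.inv_mem _ (T.nA_mem_N1 c))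
      (T.nW_mem_N1 ws)) ?_
    have := isMon_mul T.hF (isMon_inv' T.hF (T.isMon_nA c)) (T.isMon_nW ws)
    rwa [hpc, inv_mul_cancel] at this
  refine ⟨c, fun w => ⟨?_, fun hw => ?_⟩⟩
  · rintro ⟨d, hd, d', hd', ew⟩
    refine ⟨(θ.symm ⟨d, T.B1_le_G1 hd⟩ : GL D.Idx F) * (θ.symm ⟨b, T.B1_le_G1 hb⟩ : GL D.Idx F)⁻¹,
      Subgroup.mul_mem _ (hpre _ hd) (Subgroup.inv_mem _ (hpre _ hb)),
      (θ.symm ⟨x, T.B1_le_G1 hxB⟩ : GL D.Idx F)⁻¹ *
        (θ.symm ⟨((T.nA c)⁻¹ * n)⁻¹ * d', Subgroup.mul_mem _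
          (Subgroup.inv_mem _ (T.T1_le_G1 hdd)) (T.B1_le_G1 hd')⟩ : GL D.Idx F),
      Subgroup.mul_mem _ (Subgroup.inv_mem _ (hpre _ hxB)) (hpre _ (Subgroup.mul_mem _
        (Subgroup.inv_mem _ (Subgroup.mem_sup_right hdd)) hd')), ?_⟩
    rw [show w = θ.symm ⟨d, T.B1_le_G1 hd⟩ * (θ.symm ⟨b, T.B1_le_G1 hb⟩)⁻¹ * na *
      (θ.symm ⟨x, T.B1_le_G1 hxB⟩)⁻¹ * θ.symm ⟨((T.nA c)⁻¹ * n)⁻¹ * d', Subgroup.mul_mem _
          (Subgroup.inv_mem _ (T.T1_le_G1 hdd)) (T.B1_le_G1 hd')⟩ by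
      apply θ.injective
      simp only [map_mul, map_inv, θ.apply_symm_apply]
      apply Subtype.ext
      show (θ w : GL D.Idx F) = d * b⁻¹ * (θ na : GL D.Idx F) * x⁻¹ * (((T.nA c)⁻¹ * n)⁻¹ * d')
      rw [ew, e]; group]
    simp only [Subgroup.coe_mul, Subgroup.coe_inv, mul_assoc]
    rfl
  · obtain ⟨d, hd, d', hd', ew⟩ := himg w hw
    exact ⟨d, hd, (T.nA c)⁻¹ * n * d', Subgroup.mul_mem _ (Subgroup.mem_sup_right hdd) hd',
      by rw [ew]; group⟩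

theorem Norm1.cell_fixed [Finite F] {q : ℕ} (hq2 : 2 ≤ q)
    (hq : ∀ a, Nat.card {t : F // T.Par a t} = q ^ T.len a) (hR : T.Rigid) (a : Fin T.m)
    (x : ↥T.G1) : T.Cell a (θ x : GL D.Idx F) ↔ T.Cell a (x : GL D.Idx F) := by
  choose σ hσ using h.exists_cell
  have hinj : Function.Injective σ := by
    intro c d e
    have h1 : T.Cell c (T.nA c) := ⟨1, Subgroup.one_mem _, 1, Subgroup.one_mem _, by group⟩
    have h2 := (hσ c ⟨_, T.nA_mem_G1 c⟩).2 h1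
    rw [e] at h2
    exact T.cell_eq h1 ((hσ d _).1 h2)
  have hlen : ∀ c, T.len (σ c) = T.len c := fun c => by
    have h1 : Nat.card {g : ↥T.G1 // T.Cell c (g : GL D.Idx F)} =
        Nat.card {g : ↥T.G1 // T.Cell (σ c) (g : GL D.Idx F)} :=
      Nat.card_congr (θ.toEquiv.subtypeEquiv fun g => (hσ c g).symm)
    rw [T.card_cell hq, T.card_cell hq] at h1
    exact (Nat.pow_right_injective hq2 (Nat.eq_of_mul_eq_mul_left Nat.card_pos h1)).symm
  have hPa : ∀ c (y : ↥T.G1),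
      (θ y : GL D.Idx F) ∈ T.Pa (σ c) ↔ (y : GL D.Idx F) ∈ T.Pa c := fun c y => by
    rw [T.mem_Pa, T.mem_Pa, h.mem_B1, hσ]
  have hswap : ∀ c d, T.Swap (σ c) (σ d) ↔ T.Swap c d := by
    intro c d
    constructor
    · intro hS u hu v hv
      set uu : ↥T.G1 := ⟨u, T.Pa_le_G1 c hu⟩
      set vv : ↥T.G1 := ⟨v, T.Pa_le_G1 d hv⟩
      obtain ⟨x', hx', y', hy', e⟩ := hS _ ((hPa c uu).2 hu) _ ((hPa d vv).2 hv)
      obtain ⟨u', hu'⟩ := θ.surjective ⟨x', T.Pa_le_G1 _ hx'⟩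
      obtain ⟨v', hv'⟩ := θ.surjective ⟨y', T.Pa_le_G1 _ hy'⟩
      refine ⟨u', (hPa c u').1 (by rw [hu']; exact hx'), v', (hPa d v').1 (by rw [hv']; exact hy'),
        congrArg Subtype.val (θ.injective (a₁ := uu * vv) (a₂ := v' * u') ?_)⟩
      rw [map_mul, map_mul, hu', hv']
      exact Subtype.ext e
    · intro hS u hu v hv
      obtain ⟨uu, huu⟩ := θ.surjective ⟨u, T.Pa_le_G1 _ hu⟩
      obtain ⟨vv, hvv⟩ := θ.surjective ⟨v, T.Pa_le_G1 _ hv⟩
      obtain ⟨x', hx', y', hy', e⟩ := hS _ ((hPa c uu).1 (by rw [huu]; exact hu)) _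
        ((hPa d vv).1 (by rw [hvv]; exact hv))
      refine ⟨_, (hPa c ⟨x', T.Pa_le_G1 _ hx'⟩).2 hx', _,
        (hPa d ⟨y', T.Pa_le_G1 _ hy'⟩).2 hy', ?_⟩
      have e2 := congrArg θ (show uu * vv =
        (⟨y', T.Pa_le_G1 _ hy'⟩ : ↥T.G1) * ⟨x', T.Pa_le_G1 _ hx'⟩ from Subtype.ext e)
      rw [map_mul, map_mul, huu, hvv] at e2
      exact congrArg Subtype.val e2
  have := hR σ hinj hlen (fun c d => by rw [← T.swap_iff, ← T.swap_iff, hswap]) a
  rw [← hσ a x, this]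

theorem Norm1.map_y_false [Finite F] {q : ℕ} (hq2 : 2 ≤ q)
    (hq : ∀ a, Nat.card {t : F // T.Par a t} = q ^ T.len a) (hR : T.Rigid) {a : Fin T.m} {t : F}
    (ht : T.Par a t) :
    ∃ u, T.Par a u ∧ (θ ⟨T.y false a t, T.y_mem_G1 ht _⟩ : GL D.Idx F) = T.y false a u := by
  rcases eq_or_ne t 0 with rfl | h0
  · refine ⟨0, ht, ?_⟩
    rw [show (⟨T.y false a 0, T.y_mem_G1 ht _⟩ : ↥T.G1) = 1 from Subtype.ext (T.y_zero false a),
      map_one, T.y_zero]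
    rfl
  exact T.cell_inf_V1 ((h.mem_v _).2 (T.y_mem_V1 ht))
    ((h.cell_fixed hq2 hq hR a _).2 (T.y_false_cell ht h0))

theorem Norm1.map_y [Finite F] {q : ℕ} (hq2 : 2 ≤ q)
    (hq : ∀ a, Nat.card {t : F // T.Par a t} = q ^ T.len a) (hR : T.Rigid) (s : Bool)
    {a : Fin T.m} {t : F} (ht : T.Par a t) :
    ∃ u, T.Par a u ∧ (θ ⟨T.y s a t, T.y_mem_G1 ht _⟩ : GL D.Idx F) = T.y s a u := by
  cases s with
  | false => exact h.map_y_false hq2 hq hR ht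
  | true =>
    obtain ⟨n, p, hL⟩ := T.exists_isLongest
    obtain ⟨c, h1, h2⟩ := hL.exists_flip a
    obtain ⟨t', ht', e⟩ := h1 t ht
    set nn' : ↥T.G1 := ⟨n, hL.mem_G1⟩
    obtain ⟨u, hu, eu⟩ := (h.flip hL).map_y_false hq2 hq hR ht'
    obtain ⟨u', hu', eu'⟩ := h2 u hu
    refine ⟨u', hu', ?_⟩
    have h3 : nn' * ⟨T.y false c t', T.y_mem_G1 ht' _⟩ * nn'⁻¹ =
        (⟨T.y true a t, T.y_mem_G1 ht _⟩ : ↥T.G1) := Subtype.ext (by
      show n * T.y false c t' * n⁻¹ = T.y true a t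
      rw [← e]; group)
    rw [MulEquiv.trans_apply, MulEquiv.trans_apply, MulAut.conj_apply, MulAut.conj_apply, h3] at eu
    rw [← eu', ← eu]
    show _ = n * (n⁻¹ * _ * n⁻¹⁻¹) * n⁻¹
    group

end Twist

end Cfsg.Agent.Chev
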