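import Cfsg.Agent.ChevAut.Twisted.Shape
import Cfsg.Agent.ChevAut.Auts
import Cfsg.Prelude.Def_KGroupFacts

/-!
The outer automorphism group of a twisted group: diagonal classes and field automorphisms.
-/

set_option autoImplicit false
set_option maxHeartbeats 1000000

namespace Cfsg.Agent.Chev

open Cfsg.Lie
open scoped MatrixGroups

universe u

namespace Twist

variable {D : ChevalleyDatum} {F : Type u} [Field F] (T : Twist D F)

theorem aut_ext1 {φ ψ : ↥T.G1 ≃* ↥T.G1}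
    (h : ∀ (s : Bool) (a : Fin T.m) (t : F) (ht : T.Par a t),
      (φ ⟨T.y s a t, T.y_mem_G1 ht s⟩ : GL D.Idx F) = ψ ⟨T.y s a t, T.y_mem_G1 ht s⟩) :
    φ = ψ := by
  refine MulEquiv.ext ?_
  rintro ⟨x, hx⟩
  induction hx using Subgroup.closure_induction with
  | mem x hx =>
    obtain ⟨s, a, t, ht, rfl⟩ := hx
    exact Subtype.ext (h s a t ht)
  | one =>
    show φ 1 = ψ 1
    rw [map_one, map_one]
  | mul a b ha hb iha ihb =>
    show φ (⟨a, ha⟩ * ⟨b, hb⟩) = ψ (⟨a, ha⟩ * ⟨b, hb⟩)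
    rw [map_mul, map_mul]; exact congrArg₂ (· * ·) iha ihb
  | inv a ha iha =>
    show φ (⟨a, ha⟩⁻¹) = ψ (⟨a, ha⟩⁻¹)
    rw [map_inv, map_inv]; exact congrArg (·⁻¹) iha

variable [Finite F]

/-- An automorphism induced from the ambient group. -/
noncomputable def autOf (f : GL D.Idx F →* GL D.Idx F) (hinj : Function.Injective f)
    (h : ∀ s a t, T.Par a t → f (T.y s a t) ∈ T.G1) : ↥T.G1 ≃* ↥T.G1 :=
  MulEquiv.ofBijective
    ((f.comp T.G1.subtype).codRestrict T.G1 fun x =>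
      (Subgroup.closure_le (T.G1.comap f)).2
        (by rintro _ ⟨s, a, t, ht, rfl⟩; exact h s a t ht) x.2)
    (Finite.injective_iff_bijective.1 fun x y e =>
      Subtype.ext (hinj (congrArg Subtype.val e)))

theorem autOf_val (f : GL D.Idx F →* GL D.Idx F) (hinj : Function.Injective f)
    (h : ∀ s a t, T.Par a t → f (T.y s a t) ∈ T.G1) (x : ↥T.G1) :
    (T.autOf f hinj h x : GL D.Idx F) = f x := rfl

theorem autOf_norm (f : GL D.Idx F →* GL D.Idx F) (hinj : Function.Injective f)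
    (h : ∀ s a t, T.Par a t → f (T.y s a t) ∈ T.G1)
    (hU : ∀ (r : Fin D.nroots) (t : F), ∃ t', f (xG T.hF r t) = xG T.hF r t') :
    T.Norm1 (T.autOf f hinj h) := by
  have h1 : T.uT.map (T.autOf f hinj h).toMonoidHom ≤ T.uT := by
    rintro _ ⟨x, hx, rfl⟩
    refine ⟨?_, T.G1_le_fx (T.autOf f hinj h x).2⟩
    refine (Subgroup.closure_le ((D.posUnipotent F).comap f)).2 ?_ hx.1
    rintro z ⟨r, t, hr, e⟩
    rw [show z = xG T.hF r t from Units.ext e]
    obtain ⟨t', ht'⟩ := hU ⟨r, hr.1⟩ t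
    show f (xG T.hF r t) ∈ D.posUnipotent F
    rw [ht']
    exact mem_posUnipotent_of T.hF hr.1 ((T.hF.posRoot_iff r hr.1).1 hr) _
  have h2 : T.vT.map (T.autOf f hinj h).toMonoidHom ≤ T.vT := by
    rintro _ ⟨x, hx, rfl⟩
    refine ⟨?_, T.G1_le_fx (T.autOf f hinj h x).2⟩
    refine (Subgroup.closure_le ((D.negUnipotent F).comap f)).2 ?_ hx.1
    rintro z ⟨r, t, hr, e⟩
    rw [show z = xG T.hF r t from Units.ext e]
    obtain ⟨t', ht'⟩ := hU ⟨r, hr.1⟩ t
    show f (xG T.hF r t) ∈ D.negUnipotent F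
    rw [ht']
    exact mem_negUnipotent_of T.hF hr.1 ((T.hF.negRoot_iff r hr.1).1 hr) _
  exact ⟨Subgroup.eq_of_le_of_card_ge h1
      (Nat.card_congr (T.uT.equivMapOfInjective _ (MulEquiv.injective _)).toEquiv).le,
    Subgroup.eq_of_le_of_card_ge h2
      (Nat.card_congr (T.vT.equivMapOfInjective _ (MulEquiv.injective _)).toEquiv).le⟩

omit [Finite F] in
theorem gmap_y (ρ : F →+* F) (hρ : ∀ (j : ℕ) (t : F), ρ ((T.φ ^ j) t) = (T.φ ^ j) (ρ t))
    (s : Bool) (a : Fin T.m) (t : F) : gmap D ρ (T.y s a t) = T.y s a (ρ t) := by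
  rw [y, y, yv, yv, map_list_prod, List.map_map]
  refine congrArg List.prod (List.map_congr_left fun j _ => ?_)
  rw [Function.comp_apply, gmap_xG T.hF T.hF, hρ]

variable {q : ℕ} (hφ : ∀ t, T.φ t = t ^ q)
include hφ

omit [Finite F] in
theorem comm_frob (ρ : F →+* F) : ∀ (j : ℕ) (t : F), ρ ((T.φ ^ j) t) = (T.φ ^ j) (ρ t) := by
  intro j
  induction j with
  | zero => intro t; rfl
  | succ j ih =>
    intro t
    rw [pow_succ', RingHom.mul_def, RingHom.comp_apply, RingHom.comp_apply, hφ, map_pow, ih, hφ]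

omit [Finite F] in
theorem par_map (ρ : F →+* F) {a : Fin T.m} {t : F} (ht : T.Par a t) : T.Par a (ρ t) := by
  rw [Par, ← T.comm_frob hφ, ht]

omit [Finite F] in
theorem par_mapE (ρ : F ≃+* F) {a : Fin T.m} {t : F} (ht : T.Par a t) : T.Par a (ρ t) :=
  T.par_map hφ ρ.toRingHom ht

/-- A field automorphism of the twisted group. -/
noncomputable def fAut1 (ρ : F ≃+* F) : ↥T.G1 ≃* ↥T.G1 :=
  T.autOf (gmap D ρ.toRingHom) (gmap_injective _) fun s a t ht => by
    rw [T.gmap_y _ (T.comm_frob hφ _)]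
    exact T.y_mem_G1 (T.par_map hφ ρ.toRingHom ht) s

theorem fAut1_norm (ρ : F ≃+* F) : T.Norm1 (T.fAut1 hφ ρ) :=
  T.autOf_norm _ _ _ fun r t => ⟨ρ t, gmap_xG T.hF T.hF _ _ _⟩

theorem fAut1_y (ρ : F ≃+* F) (s : Bool) (a : Fin T.m) {t : F} (ht : T.Par a t) :
    (T.fAut1 hφ ρ ⟨T.y s a t, T.y_mem_G1 ht s⟩ : GL D.Idx F) = T.y s a (ρ t) :=
  T.gmap_y _ (T.comm_frob hφ ρ.toRingHom) s a t

omit hφ

variable (hA : ChevAut.AutFacts.{u} D)
include hA

omit [Finite F] in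
theorem charU_y {χ : ℕ → Fˣ} (hχ : D.IsRootCharacter χ) {c : Fin D.rank → Fˣ} (hc : c ∈ T.cfix)
    (h : ∀ i : Fin D.rank, χ (D.simple i) = c i) (s : Bool) (a : Fin T.m) (t : F) :
    ChevAut.charU χ * T.y s a t * (ChevAut.charU χ)⁻¹ =
      T.y s a ((sgnPow (c (T.base a)) s : F) * t) := by
  rw [← MulAut.conj_apply, y, y, yv, yv, map_list_prod, List.map_map]
  refine congrArg List.prod (List.map_congr_left fun j _ => ?_)
  rw [Function.comp_apply, MulAut.conj_apply, ChevAut.charU_conj T.hF hA hχ (T.rt s a j).2,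
    map_mul]
  congr 2
  have hs : χ (T.rt s a j) = sgnPow (c (T.node a j)) s := by
    cases s
    · rw [show (T.rt false a j : ℕ) = D.neg (D.simple (T.node a j)) from rfl,
        hχ.1 _ (T.hF.simple_lt _ (T.node a j).2), h]
      rfl
    · exact h _
  rw [hs, T.cfix_node hc a j]
  cases s <;> simp [sgnPow]

/-- A diagonal automorphism of the twisted group. -/
noncomputable def dAut1 (c : ↥T.cfix) : ↥T.G1 ≃* ↥T.G1 :=
  T.autOf (MulAut.conj (ChevAut.charU (hA.char F (c : Fin D.rank → Fˣ)).choose)).toMonoidHom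
    (MulAut.conj _).injective fun s a t ht => by
    obtain ⟨h1, h2⟩ := (hA.char F (c : Fin D.rank → Fˣ)).choose_spec
    show ChevAut.charU _ * T.y s a t * (ChevAut.charU _)⁻¹ ∈ T.G1
    rw [T.charU_y hA h1 c.2 h2]
    refine T.y_mem_G1 (T.par_mul ?_ ht) s
    cases s
    · show T.Par a (((c : Fin D.rank → Fˣ) (T.base a))⁻¹ : Fˣ)
      rw [Units.val_inv_eq_inv_val]
      exact T.par_inv (T.par_base c.2 a)
    · exact T.par_base c.2 a

theorem dAut1_norm (c : ↥T.cfix) : T.Norm1 (T.dAut1 hA c) :=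
  T.autOf_norm _ _ _ fun r t => ⟨_, ChevAut.charU_conj T.hF hA
    (hA.char F (c : Fin D.rank → Fˣ)).choose_spec.1 r.2 t⟩

theorem dAut1_y (c : ↥T.cfix) (s : Bool) (a : Fin T.m) {t : F} (ht : T.Par a t) :
    (T.dAut1 hA c ⟨T.y s a t, T.y_mem_G1 ht s⟩ : GL D.Idx F) =
      T.y s a ((sgnPow ((c : Fin D.rank → Fˣ) (T.base a)) s : F) * t) :=
  T.charU_y hA (hA.char F (c : Fin D.rank → Fˣ)).choose_spec.1 c.2
    (hA.char F (c : Fin D.rank → Fˣ)).choose_spec.2 s a t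

omit hA

/-- The scalars given by a torus element. -/
noncomputable def tau1 : ↥T.cfix →* ↥T.cfix where
  toFun e := ⟨fun i => chiU (e : Fin D.rank → Fˣ) (D.simple i), by
    refine T.mem_cfix.2 (funext fun i => ?_)
    obtain ⟨a, j, -, rfl⟩ := T.cover i
    obtain ⟨j', hj'⟩ : ∃ j', j + T.len a = j' + 1 :=
      ⟨j + T.len a - 1, by have := T.hO.len_pos a; omega⟩
    rw [← T.node_add a j, hj', T.node_succ]
    show Units.map T.φ.toMonoidHom
      (chiU (e : Fin D.rank → Fˣ) (D.simple (T.π.symm (T.π (T.node a j'))))) = _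
    rw [Equiv.symm_apply_apply, ← T.node_succ]
    show Units.map T.φ.toMonoidHom (chiU (e : Fin D.rank → Fˣ) (T.rt true a j')) =
      chiU (e : Fin D.rank → Fˣ) (T.rt true a (j' + 1))
    rw [T.chiU_rt e.2 true a j', T.chiU_rt e.2 true a (j' + 1)]
    exact Units.ext (by rw [pow_succ']; rfl)⟩
  map_one' := Subtype.ext (funext fun i => by simp [chiU])
  map_mul' a b := Subtype.ext (funext fun i => by simp [chiU, mul_zpow, Finset.prod_mul_distrib])

theorem index_tau1 :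
    (T.tau1).range.index = Nat.card {c : ↥T.cfix //
      ∀ i : Fin D.rank, chiU (c : Fin D.rank → Fˣ) (D.simple i) = 1} := by
  have h1 : Nat.card {c : ↥T.cfix //
      ∀ i : Fin D.rank, chiU (c : Fin D.rank → Fˣ) (D.simple i) = 1} =
      Nat.card ↥(T.tau1).ker :=
    Nat.card_congr (Equiv.subtypeEquivRight fun c => by
      rw [MonoidHom.mem_ker]
      exact ⟨fun h => Subtype.ext (funext h), fun h i => congrFun (congrArg Subtype.val h) i⟩)
  rw [h1]
  have e := Subgroup.card_mul_index (T.tau1).ker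
  rw [Subgroup.index_ker] at e
  have e' := Subgroup.card_mul_index (T.tau1).range
  rw [← e, mul_comm (Nat.card ↥(T.tau1).ker)] at e'
  exact Nat.eq_of_mul_eq_mul_left Nat.card_pos e'

theorem sgn_chiU (e : Fin D.rank → Fˣ) (s : Bool) (a : Fin T.m) :
    chiU e (T.rt s a 0) = sgnPow (chiU e (D.simple (T.base a))) s := by
  cases s
  · exact chiU_neg T.hF e (T.hF.simple_lt _ (T.base a).2)
  · rfl

include hφ hA

theorem conj_torus_mul (e : ↥T.cfix) (c : ↥T.cfix) (ρ : F ≃+* F) :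
    MulAut.conj (⟨torusHom (e : Fin D.rank → Fˣ), T.T1_le_G1 (T.mem_T1.2 ⟨_, e.2, rfl⟩)⟩ : ↥T.G1) *
        (T.dAut1 hA c * T.fAut1 hφ ρ : MulAut ↥T.G1) =
      T.dAut1 hA (T.tau1 e * c) * T.fAut1 hφ ρ := by
  refine T.aut_ext1 fun s a t ht => ?_
  have hf : T.fAut1 hφ ρ ⟨T.y s a t, T.y_mem_G1 ht s⟩ =
      ⟨T.y s a (ρ t), T.y_mem_G1 (T.par_mapE hφ ρ ht) s⟩ :=
    Subtype.ext (T.fAut1_y hφ ρ s a ht)
  simp only [MulAut.mul_apply, hf, MulAut.conj_apply, Subgroup.coe_mul, Subgroup.coe_inv,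
    T.dAut1_y hA _ s a (T.par_mapE hφ ρ ht)]
  rw [T.torus_conj_y e.2, T.sgn_chiU, ← mul_assoc]
  congr 2
  show _ = ((sgnPow (chiU (e : Fin D.rank → Fˣ) (D.simple (T.base a)) *
    (c : Fin D.rank → Fˣ) (T.base a)) s : Fˣ) : F)
  cases s <;> simp [sgnPow, mul_inv, mul_comm]

/-- The number of outer automorphisms. -/
theorem card_out1 {p e : ℕ} [Fact p.Prime] [Fintype F] (hqe : q = p ^ e) (he : 1 ≤ e)
    (hK : Fintype.card F = q ^ T.k)
    (hq : ∀ a, Nat.card {t : F // T.Par a t} = q ^ T.len a) (hR : T.Rigid)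
    {a₀ : Fin T.m} (h₀ : T.len a₀ = T.k)
    (hlink : ∀ b, b ≠ a₀ → ∃ a, a < b ∧ ∀ t : Fˣ, T.Par b (t : F) →
      ∃ u : Fˣ, T.Par a (u : F) ∧ chiU (T.hv a u) (T.rt true b 0) = t) :
    Nat.card (Cfsg.Out ↥T.G1) =
      Nat.card {c : ↥T.cfix // ∀ i : Fin D.rank, chiU (c : Fin D.rank → Fˣ) (D.simple i) = 1} *
        Nat.card (F ≃+* F) := by
  have hq2 : 2 ≤ q := hqe ▸ le_trans (Fact.out : p.Prime).two_le (Nat.le_self_pow (by omega) p)
  set mk := QuotientGroup.mk' (Cfsg.Inn ↥T.G1)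
  let Λ : ↥T.cfix → (F ≃+* F) → MulAut ↥T.G1 := fun c ρ => T.dAut1 hA c * T.fAut1 hφ ρ
  have hΛy : ∀ c ρ (s : Bool) (a : Fin T.m) (t : F) (ht : T.Par a t),
      (Λ c ρ ⟨T.y s a t, T.y_mem_G1 ht s⟩ : GL D.Idx F) =
        T.y s a ((sgnPow ((c : Fin D.rank → Fˣ) (T.base a)) s : F) * ρ t) := by
    intro c ρ s a t ht
    have hf : T.fAut1 hφ ρ ⟨T.y s a t, T.y_mem_G1 ht s⟩ =
        ⟨T.y s a (ρ t), T.y_mem_G1 (T.par_mapE hφ ρ ht) s⟩ :=
      Subtype.ext (T.fAut1_y hφ ρ s a ht)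
    show (T.dAut1 hA c (T.fAut1 hφ ρ _) : GL D.Idx F) = _
    rw [hf, T.dAut1_y hA c s a (T.par_mapE hφ ρ ht)]
  have hsurj : ∀ x, ∃ c ρ, mk (Λ c ρ) = x := by
    intro x
    obtain ⟨θ, rfl⟩ := QuotientGroup.mk'_surjective _ x
    obtain ⟨P, hP⟩ := T.exists_sylow1 hqe he hK hq
    obtain ⟨g, θ', hg, hθ'⟩ := T.exists_normalised1 p P hP θ
    obtain ⟨c, ρ, hc, hy⟩ := hθ'.exists_scalars hq2 hq hR hφ h₀ hlink
    let c' : ↥T.cfix := ⟨∏ a, T.hv a (c a), Subgroup.prod_mem _ fun a _ => T.hv_mem (hc a)⟩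
    have hc' : ∀ a, (c' : Fin D.rank → Fˣ) (T.base a) = c a := by
      intro a
      show (∏ b, T.hv b (c b)) (T.base a) = c a
      rw [Finset.prod_apply, Finset.prod_eq_single a]
      · rw [← T.node_zero, T.hv_node a _ (T.hO.len_pos a)]
        exact Units.ext rfl
      · intro b _ hb
        refine T.hv_other _ fun j hj e => hb ?_
        rw [← T.node_zero a] at e
        exact T.orbit_eq e
      · intro hn; exact absurd (Finset.mem_univ _) hn
    refine ⟨c', ρ, ?_⟩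
    have e : θ' = Λ c' ρ := T.aut_ext1 fun s a t ht => by rw [hy s a t ht, hΛy c' ρ s a t ht, hc']
    have e2 : θ = MulAut.conj g * Λ c' ρ := MulEquiv.ext fun y => by
      rw [hg, ← e]; rfl
    show mk (Λ c' ρ) = mk θ
    rw [e2, map_mul mk (MulAut.conj g),
      show mk (MulAut.conj g) = 1 from (QuotientGroup.eq_one_iff _).2 ⟨g, rfl⟩, one_mul]
  have hiff : ∀ c ρ c' ρ', mk (Λ c ρ) = mk (Λ c' ρ') ↔ c' * c⁻¹ ∈ (T.tau1).range ∧ ρ = ρ' := by
    intro c ρ c' ρ'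
    constructor
    · intro h
      have h' : Λ c' ρ' * (Λ c ρ)⁻¹ ∈ Cfsg.Inn ↥T.G1 := by
        refine (QuotientGroup.eq_one_iff _).1 ?_
        show mk (Λ c' ρ' * (Λ c ρ)⁻¹) = 1
        rw [map_mul, map_inv, h, mul_inv_cancel]
      obtain ⟨x, hx⟩ := h'
      have hx' : ∀ y, Λ c' ρ' y = x * Λ c ρ y * x⁻¹ := fun y => by
        have := DFunLike.congr_fun hx (Λ c ρ y)
        rw [MulAut.conj_apply] at this
        rw [this]
        show Λ c' ρ' y = Λ c' ρ' ((Λ c ρ).symm (Λ c ρ y))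
        rw [MulEquiv.symm_apply_apply]
      have hN : ∀ c ρ (w : ↥T.G1),
          ((Λ c ρ w : GL D.Idx F) ∈ T.U1 ↔ (w : GL D.Idx F) ∈ T.U1) ∧
          ((Λ c ρ w : GL D.Idx F) ∈ T.V1 ↔ (w : GL D.Idx F) ∈ T.V1) := fun c ρ w =>
        ⟨((T.dAut1_norm hA c).mem_u _).trans ((T.fAut1_norm hφ ρ).mem_u w),
          ((T.dAut1_norm hA c).mem_v _).trans ((T.fAut1_norm hφ ρ).mem_v w)⟩
      have hxT : (x : GL D.Idx F) ∈ T.T1 := by
        refine T.mem_T1_of_normalizes x.2 (fun y hy => ?_) fun y hy => ?_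
        · obtain ⟨w, hw⟩ := (Λ c ρ).surjective ⟨y, T.U1_le_G1 hy⟩
          have h1 := ((hN c' ρ' w).1).2 ((hN c ρ w).1.1 (by rw [hw]; exact hy))
          rw [hx', hw] at h1
          exact h1
        · obtain ⟨w, hw⟩ := (Λ c ρ).surjective ⟨y, T.V1_le_G1 hy⟩
          have h1 := ((hN c' ρ' w).2).2 ((hN c ρ w).2.1 (by rw [hw]; exact hy))
          rw [hx', hw] at h1
          exact h1
      obtain ⟨d, hd, hdx⟩ := T.mem_T1.1 hxT
      have key : ∀ (a : Fin T.m) (t : F), T.Par a t →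
          ((c' : Fin D.rank → Fˣ) (T.base a) : F) * ρ' t =
            (chiU d (D.simple (T.base a)) : F) * (((c : Fin D.rank → Fˣ) (T.base a) : F) * ρ t) := by
        intro a t ht
        have h1 := congrArg Subtype.val (hx' ⟨T.y true a t, T.y_mem_G1 ht true⟩)
        rw [Subgroup.coe_mul, Subgroup.coe_mul, Subgroup.coe_inv, hΛy c' ρ' true a t ht,
          hΛy c ρ true a t ht, ← hdx,
          T.torus_conj_y hd, T.sgn_chiU] at h1
        exact T.y_injective h1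
      have h1 : ∀ a, (c' : Fin D.rank → Fˣ) (T.base a) =
          chiU d (D.simple (T.base a)) * (c : Fin D.rank → Fˣ) (T.base a) := fun a => by
        have := key a 1 (T.par_one a)
        rw [map_one, map_one, mul_one, mul_one] at this
        exact Units.ext this
      refine ⟨⟨⟨d, hd⟩, ?_⟩, RingEquiv.ext fun t => ?_⟩
      · rw [eq_mul_inv_iff_mul_eq]
        refine Subtype.ext (funext fun i => ?_)
        obtain ⟨a, j, -, rfl⟩ := T.cover i
        show chiU d (T.rt true a j) * (c : Fin D.rank → Fˣ) (T.node a j) = _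
        rw [T.cfix_node c.2, T.cfix_node c'.2, T.chiU_rt hd true a j, h1, map_mul]
        rfl
      · have := key a₀ t (T.par_of_len h₀ t)
        rw [h1, Units.val_mul, mul_assoc] at this
        exact (mul_left_cancel₀ (Units.ne_zero _) (mul_left_cancel₀ (Units.ne_zero _) this)).symm
    · rintro ⟨⟨d, hd⟩, rfl⟩
      rw [eq_mul_inv_iff_mul_eq] at hd
      subst hd
      show mk (T.dAut1 hA c * T.fAut1 hφ ρ) = mk (T.dAut1 hA (T.tau1 d * c) * T.fAut1 hφ ρ)
      rw [← T.conj_torus_mul hφ hA d c ρ]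
      exact ((map_mul mk _ _).trans (by
        rw [show mk (MulAut.conj _) = 1 from (QuotientGroup.eq_one_iff _).2 ⟨_, rfl⟩, one_mul])).symm
  let Φ : (↥T.cfix ⧸ (T.tau1).range) × (F ≃+* F) → Cfsg.Out ↥T.G1 :=
    fun x => mk (Λ x.1.out x.2)
  have hΦ : Function.Bijective Φ := by
    refine ⟨fun x y e => ?_, fun z => ?_⟩
    · obtain ⟨h1, h2⟩ := (hiff _ _ _ _).1 e
      refine Prod.ext ?_ h2
      rw [← QuotientGroup.out_eq' x.1, ← QuotientGroup.out_eq' y.1]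
      refine QuotientGroup.eq.2 ?_
      rwa [mul_comm] at h1
    · obtain ⟨c, ρ, e⟩ := hsurj z
      refine ⟨((c : ↥T.cfix ⧸ (T.tau1).range), ρ), e ▸ ((hiff _ _ _ _).2 ⟨?_, rfl⟩)⟩
      obtain ⟨h, hh⟩ := QuotientGroup.mk_out_eq_mul (T.tau1).range c
      rw [hh, mul_inv_rev, ← mul_assoc, mul_comm c, mul_assoc, mul_inv_cancel, mul_one]
      exact Subgroup.inv_mem _ h.2
  rw [← Nat.card_congr (Equiv.ofBijective Φ hΦ), Nat.card_prod, ← Subgroup.index_eq_card,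
    T.index_tau1]

end Twist

end Cfsg.Agent.Chev
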