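import Cfsg.Agent.ChevAut.Twisted.Cells
import Cfsg.Agent.ChevAut.Hua

/-!
A normalised automorphism of a twisted group scales the fundamental root subgroups and acts on the
parameters by one automorphism of the field.
-/

set_option autoImplicit false
set_option maxHeartbeats 1000000

namespace Cfsg.Agent.Chev

open Cfsg.Lie
open scoped MatrixGroups

universe u

namespace Twist

variable {D : ChevalleyDatum} {F : Type u} [Field F] (T : Twist D F)

/-- The field of parameters of an orbit. -/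
def parField (a : Fin T.m) : Subfield F :=
  RingHom.eqLocusField (T.φ ^ T.len a) (RingHom.id F)

theorem mem_parField {a : Fin T.m} {t : F} : t ∈ T.parField a ↔ T.Par a t := Iff.rfl

theorem hv_mul (a : Fin T.m) (u v : Fˣ) : T.hv a (u * v) = T.hv a u * T.hv a v := by
  funext i
  by_cases h : ∃ j < T.len a, T.node a j = i
  · obtain ⟨j, hj, rfl⟩ := h
    rw [Pi.mul_apply, T.hv_node a _ hj, T.hv_node a _ hj, T.hv_node a _ hj, map_mul]
  · push Not at h
    rw [Pi.mul_apply, T.hv_other _ h, T.hv_other _ h, T.hv_other _ h, one_mul]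

theorem hv_one (a : Fin T.m) : T.hv a 1 = 1 := by
  have h := T.hv_mul a 1 1
  rw [one_mul] at h
  exact left_eq_mul.1 h

theorem y_inj_sign {s : Bool} {a : Fin T.m} {t u : F} (e : T.y s a t = T.y s a u) : t = u := by
  cases s with
  | true => exact T.y_injective e
  | false =>
    rw [← neg_neg t, ← neg_neg u, ← T.nA_conj_y, ← T.nA_conj_y, mul_left_inj, mul_right_inj] at e
    exact neg_inj.1 (T.y_injective e)

theorem chiU_hv_false (a : Fin T.m) (u : Fˣ) :
    chiU (T.hv a u) (T.rt false a 0) = (u ^ 2)⁻¹ := by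
  rw [show (T.rt false a 0 : ℕ) = D.neg (T.rt true a 0) from rfl,
    chiU_neg T.hF _ (T.rt true a 0).2, T.chiU_hv]

theorem nn_conj_y (a : Fin T.m) {u : Fˣ} (hu : T.Par a (u : F)) (t : F) :
    T.nn a (u : F) * T.y true a t * (T.nn a (u : F))⁻¹ =
      T.y false a (((u ^ 2)⁻¹ : Fˣ) * -t) := by
  rw [T.nn_torus, show torusHom (T.hv a u) * T.nA a * T.y true a t *
      (torusHom (T.hv a u) * T.nA a)⁻¹ =
      torusHom (T.hv a u) * (T.nA a * T.y true a t * (T.nA a)⁻¹) * (torusHom (T.hv a u))⁻¹ by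
    group, T.nA_conj_y, T.torus_conj_y (T.hv_mem hu), T.chiU_hv_false]

/-- The conjugation characterising the parameter of the middle factor. -/
theorem rank_one_unique1 {a : Fin T.m} {A B C : F} (hA : T.Par a A) (hB : T.Par a B)
    (hC : T.Par a C) (hC0 : C ≠ 0)
    (h : T.y true a A * T.y false a B * T.y true a A * T.y true a C *
      (T.y true a A * T.y false a B * T.y true a A)⁻¹ ∈ T.V1) : B = -A⁻¹ := by
  have hU : ∀ x : F, T.Par a x → T.y true a x ∈ T.B1 := fun x hx =>
    Subgroup.mem_sup_left (T.y_mem_U1 hx)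
  have hB0 : B ≠ 0 := by
    rintro rfl
    rw [T.y_zero, mul_one, T.y_mul, T.y_mul, T.y_inv, T.y_mul, add_neg_cancel_comm] at h
    exact T.y_ne_one hC0 true (T.V1_disjoint (T.B1_le_borel (hU C hC)) h)
  set s : Fˣ := Units.mk0 (-B⁻¹) (neg_ne_zero.2 (inv_ne_zero hB0)) with hs
  have hsp : T.Par a (s : F) := T.par_neg (T.par_inv hB)
  set d := A - (s : F) with hd
  have hdp : T.Par a d := by rw [hd, sub_eq_add_neg]; exact T.par_add hA (T.par_neg hsp)
  have eB : T.y false a B = T.y true a (-(s : F)) * T.nn a (s : F) * T.y true a (-(s : F)) := by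
    rw [← T.y_false_eq, hs, Units.val_mk0, inv_neg, neg_neg, inv_inv]
  have eM : T.y true a A * T.y false a B * T.y true a A =
      T.y true a d * T.nn a (s : F) * T.y true a d := by
    rw [eB, hd, sub_eq_add_neg,
      show T.y true a A * (T.y true a (-(s : F)) * T.nn a (s : F) * T.y true a (-(s : F))) *
          T.y true a A = (T.y true a A * T.y true a (-(s : F))) * T.nn a (s : F) *
          (T.y true a (-(s : F)) * T.y true a A) by group,
      T.y_mul, T.y_mul, add_comm (-(s : F)) A]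
  set q : F := ((s ^ 2)⁻¹ : Fˣ) * -C with hq
  have hq0 : q ≠ 0 := mul_ne_zero (Units.ne_zero _) (neg_ne_zero.2 hC0)
  have hqp : T.Par a q := by
    refine T.par_mul ?_ (T.par_neg hC)
    rw [Units.val_inv_eq_inv_val, Units.val_pow_eq_pow_val, pow_two]
    exact T.par_inv (T.par_mul hsp hsp)
  rw [eM, show T.y true a d * T.nn a (s : F) * T.y true a d * T.y true a C *
      (T.y true a d * T.nn a (s : F) * T.y true a d)⁻¹ =
      T.y true a d * (T.nn a (s : F) * (T.y true a d * T.y true a C * (T.y true a d)⁻¹) *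
        (T.nn a (s : F))⁻¹) * (T.y true a d)⁻¹ by group,
    T.y_inv, T.y_mul, T.y_mul, add_neg_cancel_comm, T.nn_conj_y a hsp, ← hq] at h
  suffices hd0 : d = 0 by
    rw [hd, sub_eq_zero] at hd0
    rw [hd0, hs, Units.val_mk0, inv_neg, neg_neg, inv_inv]
  -- compare two normal forms of an element of the cell
  have hcell : T.Cell a (T.y true a d * T.y false a q * T.y true a (-d)) := by
    obtain ⟨x, hx, x', hx', e⟩ := T.y_false_cell hqp hq0
    exact ⟨T.y true a d * x, Subgroup.mul_mem _ (hU d hdp) hx, x' * T.y true a (-d),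
      Subgroup.mul_mem _ hx' (hU _ (T.par_neg hdp)), by rw [e]; group⟩
  obtain ⟨r, hr, er⟩ := T.cell_inf_V1 h hcell
  have hr0 : r ≠ 0 := by
    rintro rfl
    rw [T.y_zero, ← T.y_inv, conj_eq_one_iff] at er
    exact T.y_ne_one hq0 false er
  have key : ∀ z : F, z ≠ 0 → T.Par a z → ∃ v : Fˣ, (v : F) = -z⁻¹ ∧ T.y false a z =
      T.y true a z⁻¹ * (torusHom (T.hv a v) * T.nA a) * T.y true a z⁻¹ := fun z hz hzp => by
    refine ⟨Units.mk0 (-z⁻¹) (neg_ne_zero.2 (inv_ne_zero hz)), rfl, ?_⟩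
    have := T.y_false_eq a (-z⁻¹)
    rw [inv_neg, neg_neg, inv_inv, neg_neg, show T.nn a (-z⁻¹) =
      T.nn a ((Units.mk0 (-z⁻¹) (neg_ne_zero.2 (inv_ne_zero hz)) : Fˣ) : F) from rfl,
      T.nn_torus] at this
    exact this
  obtain ⟨v, hv, ev⟩ := key q hq0 hqp
  obtain ⟨w, hw, ew⟩ := key r hr0 hr
  have hvp : T.Par a (v : F) := hv ▸ T.par_neg (T.par_inv hqp)
  have hwp : T.Par a (w : F) := hw ▸ T.par_neg (T.par_inv hr)
  have hbv : ∀ (x : F) (z : Fˣ), T.Par a x → T.Par a (z : F) →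
      T.y true a x * torusHom (T.hv a z) ∈ D.borelSubgroup F := fun x z hx hz =>
    T.B1_le_borel (Subgroup.mul_mem _ (hU x hx)
      (Subgroup.mem_sup_right (T.mem_T1.2 ⟨_, T.hv_mem hz, rfl⟩)))
  have hm : ∀ x : F, T.y true a x ∈ uMinus T.hF (T.pW [a]) := fun x => by
    rw [T.pW_single]; exact T.y_mem_uMinus a _
  have heq : T.y true a (d + q⁻¹) * torusHom (T.hv a v) * T.nW [a] * T.y true a (q⁻¹ + -d) =
      T.y true a r⁻¹ * torusHom (T.hv a w) * T.nW [a] * T.y true a r⁻¹ := by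
    rw [T.nW_single, ← T.y_mul, ← T.y_mul]
    refine Eq.trans ?_ ((er.trans ew).trans ?_)
    · rw [ev]; group
    · group
  obtain ⟨h1, h2⟩ := (T.nf_unique (hbv _ _ (T.par_add hdp (T.par_inv hqp)) hvp)
    (hbv _ _ (T.par_inv hr) hwp) (hm _) (hm _) heq).2 rfl
  obtain ⟨h3, h4⟩ := posUnipotent_torus_unique T.hF
    (T.y_mem_U1 (T.par_add hdp (T.par_inv hqp))).1 (T.y_mem_U1 (T.par_inv hr)).1 h1
  have k1 : d + q⁻¹ = r⁻¹ := T.y_injective h3
  have k2 : q⁻¹ + -d = r⁻¹ := T.y_injective h2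
  have e1 := T.torus_conj_y (T.hv_mem hvp) true a (1 : F)
  rw [h4, T.torus_conj_y (T.hv_mem hwp), T.chiU_hv, T.chiU_hv] at e1
  have e2 := T.y_injective e1
  rw [mul_one, mul_one, Units.val_pow_eq_pow_val, Units.val_pow_eq_pow_val, hv, hw] at e2
  have hdd : 2 * d = 0 := by linear_combination k1 - k2
  by_cases h2F : (2 : F) = 0
  · have : d * d = 0 := by
      rw [show d = r⁻¹ - q⁻¹ by linear_combination k1]
      linear_combination e2 + (q⁻¹ ^ 2 - q⁻¹ * r⁻¹) * h2F
    exact mul_self_eq_zero.1 this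
  · exact (mul_eq_zero.1 hdd).resolve_left h2F

/-- A scalar or its inverse, according to the sign. -/
def sgnPow (c : Fˣ) (s : Bool) : Fˣ := if s then c else c⁻¹

variable {T} {θ : ↥T.G1 ≃* ↥T.G1} (h : T.Norm1 θ)

include h

theorem Norm1.exists_sigma [Finite F] {q : ℕ} (hq2 : 2 ≤ q)
    (hq : ∀ a, Nat.card {t : F // T.Par a t} = q ^ T.len a) (hR : T.Rigid) :
    ∃ (c : Fin T.m → Fˣ) (σ : ∀ a, T.parField a ≃+* T.parField a),
      (∀ a, T.Par a (c a : F)) ∧
      (∀ (s : Bool) (a : Fin T.m) (t : T.parField a),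
        (θ ⟨T.y s a (t : F), T.y_mem_G1 t.2 s⟩ : GL D.Idx F) =
          T.y s a ((sgnPow (c a) s : F) * (σ a t : F))) ∧
      ∀ (a b : Fin T.m) (u : Fˣ) (hu : T.Par a (u : F)) (v : Fˣ),
        (v : F) = (σ a ⟨u, hu⟩ : F) →
        (σ b ⟨(chiU (T.hv a u) (T.rt true b 0) : F), T.par_chiU (T.hv_mem hu) true b⟩ : F) =
          (chiU (T.hv a v) (T.rt true b 0) : F) := by
  let yG : ∀ (s : Bool) (a : Fin T.m), T.parField a → ↥T.G1 :=
    fun s a t => ⟨T.y s a (t : F), T.y_mem_G1 t.2 s⟩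
  have hmap : ∀ (s : Bool) (a : Fin T.m) (t : T.parField a), ∃ u : T.parField a,
      θ (yG s a t) = yG s a u := fun s a t => by
    obtain ⟨u, hu, e⟩ := h.map_y hq2 hq hR s (a := a) t.2
    exact ⟨⟨u, hu⟩, Subtype.ext e⟩
  choose f hf using hmap
  have hinjY : ∀ s a {t u : T.parField a}, yG s a t = yG s a u → t = u := fun s a t u e =>
    Subtype.ext (T.y_inj_sign (congrArg Subtype.val e))
  have hmulY : ∀ s a (t u : T.parField a), yG s a (t + u) = yG s a t * yG s a u := fun s a t u =>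
    Subtype.ext (T.y_mul s a t u).symm
  have fadd : ∀ s a (t u : T.parField a), f s a (t + u) = f s a t + f s a u := fun s a t u =>
    hinjY s a (by rw [← hf, hmulY, map_mul, hf, hf, hmulY])
  have hbij : ∀ s a, Function.Bijective (f s a) := fun s a =>
    Finite.injective_iff_bijective.1 fun t u e =>
      hinjY s a (θ.injective (by rw [hf, hf, e]))
  have hf0 : ∀ s a (t : T.parField a), t ≠ 0 → f s a t ≠ 0 := fun s a t ht e =>
    ht ((hbij s a).1 (e.trans (AddMonoidHom.map_zero (AddMonoidHom.mk' (f s a) (fadd s a))).symm))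
  have hrel : ∀ a (t : T.parField a), t ≠ 0 → f false a (-t⁻¹) = -(f true a t)⁻¹ := by
    intro a t ht
    refine Subtype.ext ?_
    show (f false a (-t⁻¹) : F) = -((f true a t : F))⁻¹
    refine T.rank_one_unique1 (f true a t).2 (f false a (-t⁻¹)).2 (f true a 1).2
      (fun e => hf0 true a 1 one_ne_zero (Subtype.ext e)) ?_
    have hmem : (yG true a t * yG false a (-t⁻¹) * yG true a t * yG true a 1 *
        (yG true a t * yG false a (-t⁻¹) * yG true a t)⁻¹ : ↥T.G1).1 ∈ T.V1 := by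
      show T.nn a (t : F) * T.y true a 1 * (T.nn a (t : F))⁻¹ ∈ T.V1
      have ht0 : (t : F) ≠ 0 := fun e => ht (Subtype.ext e)
      rw [show (t : F) = ((Units.mk0 (t : F) ht0 : Fˣ) : F) from rfl,
        T.nn_conj_y a (u := Units.mk0 (t : F) ht0) t.2]
      refine T.y_mem_V1 (T.par_mul ?_ (T.par_neg (T.par_one a)))
      rw [Units.val_inv_eq_inv_val, Units.val_pow_eq_pow_val, pow_two]
      exact T.par_inv (T.par_mul t.2 t.2)
    have h1 := (h.mem_v _).2 hmem
    simp only [map_mul, map_inv, hf] at h1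
    exact h1
  have hσ : ∀ a, ∃ σ : T.parField a ≃+* T.parField a, ∀ t,
      f true a t = f true a 1 * σ t ∧ f false a t = (f true a 1)⁻¹ * σ t := by
    intro a
    have hc := hf0 true a 1 one_ne_zero
    obtain ⟨σ, hσ⟩ := ChevAut.exists_fieldAut (F := T.parField a)
      (f := fun t => (f true a 1)⁻¹ * f true a t) (g := fun t => f true a 1 * f false a t)
      ((mulLeft_bijective₀ _ (inv_ne_zero hc)).comp (hbij true a))
      (fun t u => by rw [fadd, mul_add]) (fun t u => by rw [fadd, mul_add])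
      (inv_mul_cancel₀ hc) (fun t ht => by
        rw [hrel a t ht, mul_inv, inv_inv, mul_neg])
    exact ⟨σ, fun t => ⟨by rw [← (hσ t).1, mul_inv_cancel_left₀ hc],
      by rw [← (hσ t).2, inv_mul_cancel_left₀ hc]⟩⟩
  choose σ hσ using hσ
  set c : Fin T.m → Fˣ := fun a => Units.mk0 (f true a 1 : F)
    (fun e => hf0 true a 1 one_ne_zero (Subtype.ext e)) with hc
  have hy : ∀ (s : Bool) (a : Fin T.m) (t : T.parField a),
      (θ (yG s a t) : GL D.Idx F) = T.y s a ((sgnPow (c a) s : F) * (σ a t : F)) := by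
    intro s a t
    rw [hf]
    show T.y s a (f s a t : F) = _
    cases s
    · rw [(hσ a t).2]
      simp [sgnPow, hc]
    · rw [(hσ a t).1]
      simp [sgnPow, hc]
  refine ⟨c, σ, fun a => (f true a 1).2, hy, ?_⟩
  -- the relation given by the torus
  intro a b u hu v hv
  have hvp : T.Par a (v : F) := hv ▸ (σ a ⟨u, hu⟩).2
  let nG : ∀ x : F, T.Par a x → ↥T.G1 := fun x hx => ⟨T.nn a x, T.nn_mem_G1 hx⟩
  have hnn : ∀ (x : T.parField a),
      (θ (nG (x : F) x.2) : GL D.Idx F) = T.nn a ((c a : F) * (σ a x : F)) := by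
    intro x
    have e : nG (x : F) x.2 = yG true a x * yG false a (-x⁻¹) * yG true a x :=
      Subtype.ext (by show T.nn a (x : F) = _; rfl)
    rw [e, map_mul, map_mul, Subgroup.coe_mul, Subgroup.coe_mul, hy, hy]
    show _ = T.y true a ((c a : F) * (σ a x : F)) * T.y false a (-((c a : F) * (σ a x : F))⁻¹) *
      T.y true a ((c a : F) * (σ a x : F))
    congr 2
    · congr 1
      rw [map_neg, map_inv₀]
      simp [sgnPow, mul_inv, mul_comm]
  have hcp : T.Par a (c a : F) := (f true a 1).2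
  set tu : ↥T.G1 := ⟨torusHom (T.hv a u), T.T1_le_G1 (T.mem_T1.2 ⟨_, T.hv_mem hu, rfl⟩)⟩ with htu
  have hT : (θ tu : GL D.Idx F) = torusHom (T.hv a v) := by
    have e : tu = nG ((⟨u, hu⟩ : T.parField a) : F) hu * (nG ((1 : T.parField a) : F) (T.par_one a))⁻¹ :=
      Subtype.ext (by
        show torusHom (T.hv a u) = T.nn a (u : F) * (T.nn a (1 : F))⁻¹
        rw [T.nn_torus, T.nn_one, mul_inv_cancel_right])
    rw [e, map_mul, map_inv, Subgroup.coe_mul, Subgroup.coe_inv, hnn, hnn, ← hv, map_one,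
      show ((1 : T.parField a) : F) = 1 from rfl, mul_one, ← Units.val_mul, T.nn_torus, T.nn_torus,
      T.hv_mul, map_mul]
    rw [show torusHom (T.hv a (c a)) * torusHom (T.hv a v) =
      (torusHom (T.hv a v) * torusHom (T.hv a (c a)) : GL D.Idx F) by
      rw [← map_mul, ← map_mul, mul_comm]]
    group
  set χ : T.parField b := ⟨(chiU (T.hv a u) (T.rt true b 0) : F), T.par_chiU (T.hv_mem hu) true b⟩
  have e1 : tu * yG true b 1 * tu⁻¹ = yG true b χ := Subtype.ext (by
    show torusHom (T.hv a u) * T.y true b (1 : F) * (torusHom (T.hv a u))⁻¹ = T.y true b (χ : F)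
    rw [T.torus_conj_y (T.hv_mem hu), mul_one])
  have e2 := congrArg (fun z => ((θ z : ↥T.G1) : GL D.Idx F)) e1
  simp only [map_mul, map_inv, Subgroup.coe_mul, Subgroup.coe_inv, hT, hy, map_one] at e2
  rw [show ((1 : T.parField b) : F) = 1 from rfl, mul_one, T.torus_conj_y (T.hv_mem hvp),
    mul_comm] at e2
  exact (mul_left_cancel₀ (Units.ne_zero _) (T.y_injective e2)).symm

/-- A normalised automorphism scales the fundamental root subgroups and applies one automorphism of
the field, provided the orbits are linked. -/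
theorem Norm1.exists_scalars [Finite F] {q : ℕ} (hq2 : 2 ≤ q)
    (hq : ∀ a, Nat.card {t : F // T.Par a t} = q ^ T.len a) (hR : T.Rigid)
    (hφ : ∀ t, T.φ t = t ^ q) {a₀ : Fin T.m} (h₀ : T.len a₀ = T.k)
    (hlink : ∀ b, b ≠ a₀ → ∃ a, a < b ∧ ∀ t : Fˣ, T.Par b (t : F) →
      ∃ u : Fˣ, T.Par a (u : F) ∧ chiU (T.hv a u) (T.rt true b 0) = t) :
    ∃ (c : Fin T.m → Fˣ) (ρ : F ≃+* F), (∀ a, T.Par a (c a : F)) ∧
      ∀ (s : Bool) (a : Fin T.m) (t : F) (ht : T.Par a t),
        (θ ⟨T.y s a t, T.y_mem_G1 ht s⟩ : GL D.Idx F) =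
          T.y s a ((sgnPow (c a) s : F) * ρ t) := by
  obtain ⟨c, σ, hc, hy, hrel⟩ := h.exists_sigma hq2 hq hR
  let ρ : F ≃+* F :=
    { toFun := fun t => (σ a₀ ⟨t, T.par_of_len h₀ t⟩ : F)
      invFun := fun t => ((σ a₀).symm ⟨t, T.par_of_len h₀ t⟩ : F)
      left_inv := fun t => congrArg Subtype.val ((σ a₀).symm_apply_apply ⟨t, T.par_of_len h₀ t⟩)
      right_inv := fun t => congrArg Subtype.val ((σ a₀).apply_symm_apply ⟨t, T.par_of_len h₀ t⟩)
      map_mul' := fun t u => congrArg Subtype.val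
        (map_mul (σ a₀) ⟨t, T.par_of_len h₀ t⟩ ⟨u, T.par_of_len h₀ u⟩)
      map_add' := fun t u => congrArg Subtype.val
        (map_add (σ a₀) ⟨t, T.par_of_len h₀ t⟩ ⟨u, T.par_of_len h₀ u⟩) }
  have hρφ : ∀ (j : ℕ) (t : F), ρ ((T.φ ^ j) t) = (T.φ ^ j) (ρ t) := by
    intro j
    induction j with
    | zero => intro t; rfl
    | succ j ih =>
      intro t
      rw [pow_succ', RingHom.mul_def, RingHom.comp_apply, RingHom.comp_apply, hφ, map_pow, ih, hφ]
  have hσ : ∀ n (b : Fin T.m), (b : ℕ) = n → ∀ t : T.parField b, (σ b t : F) = ρ (t : F) := by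
    intro n
    induction n using Nat.strong_induction_on with
    | _ n ih =>
      intro b hn t
      rcases eq_or_ne b a₀ with rfl | hb
      · rfl
      rcases eq_or_ne t 0 with rfl | ht
      · simp
      obtain ⟨a, hab, hsurj⟩ := hlink b hb
      have ht0 : (t : F) ≠ 0 := fun e => ht (Subtype.ext e)
      obtain ⟨u, hu, e⟩ := hsurj (Units.mk0 (t : F) ht0) t.2
      set v : Fˣ := Units.map ρ.toMonoidHom u with hv
      have h1 := hrel a b u hu v (ih a (hn ▸ hab) a rfl ⟨u, hu⟩).symm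
      have h2 : (⟨(chiU (T.hv a u) (T.rt true b 0) : F), T.par_chiU (T.hv_mem hu) true b⟩ :
          T.parField b) = t := Subtype.ext (congrArg Units.val e)
      rw [h2] at h1
      rw [h1]
      have h3 : T.hv a v = fun i => Units.map ρ.toMonoidHom (T.hv a u i) := by
        funext i
        by_cases hi : ∃ j < T.len a, T.node a j = i
        · obtain ⟨j, hj, rfl⟩ := hi
          rw [T.hv_node a _ hj, T.hv_node a _ hj]
          exact Units.ext (hρφ j u).symm
        · push Not at hi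
          rw [T.hv_other _ hi, T.hv_other _ hi, map_one]
      rw [h3, show chiU (fun i => Units.map ρ.toMonoidHom (T.hv a u i)) (T.rt true b 0 : ℕ) =
        Units.map ρ.toMonoidHom (chiU (T.hv a u) (T.rt true b 0)) by simp [chiU, map_prod], e]
      rfl
  refine ⟨c, ρ, hc, fun s a t ht => ?_⟩
  rw [← hσ a a rfl ⟨t, ht⟩]
  exact hy s a ⟨t, ht⟩

end Twist

end Cfsg.Agent.Chev
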